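import Cfsg.Agent.PSpFourTypeThree.Triangle
import Cfsg.Agent.PSpFourNormM.Count
import Cfsg.Agent.Char.ClassProducts
import Cfsg.Agent.Char.AlgInt
import Cfsg.Agent.Char.Inner
import Cfsg.Agent.Char.Orthogonality

/-!
A group with a self-centralising elementary abelian Sylow 3-subgroup `S` of order `q` whose
elements are not real and which contains a subgroup of order `q(q²-1)/2` fusing `S#` into two
classes, is that subgroup.
-/

set_option autoImplicit false
set_option linter.style.haveILetI false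
set_option maxHeartbeats 400000

open scoped ComplexConjugate
open CfsgLib.Char

namespace CfsgLib.PSpFourThreePower

open CfsgLib.PSpFourTypeThree

universe u

variable {X : Type u} [Group X] [Finite X] (S L : Subgroup X)
  (hcomm : ∀ a ∈ S, ∀ b ∈ S, a * b = b * a) (hexp : ∀ a ∈ S, a ^ 3 = 1) (hidx : ¬ 3 ∣ S.index)
  (hcent : ∀ s ∈ S, s ≠ 1 → Subgroup.centralizer ({s} : Set X) ≤ S)
  {x : X} (hx : x ∈ S) (hx1 : x ≠ 1) (hreal : ∀ g : X, g * x * g⁻¹ ≠ x⁻¹)

include hcomm hexp hidx hcent hx hx1 hreal in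
/-- At most `(q-1)/2` pairs of conjugates of `x`, `x⁻¹` have product `x`. -/
theorem two_mul_card_triples :
    2 * Nat.card {p : X × X // IsConj x p.1 ∧ IsConj x⁻¹ p.2 ∧ p.1 * p.2 = x} + 1 ≤ Nat.card S := by
  classical
  haveI := Fintype.ofFinite X
  set T := Finset.univ.filter fun p : X × X => IsConj x p.1 ∧ IsConj x⁻¹ p.2 ∧ p.1 * p.2 = x
  rw [Nat.card_eq_fintype_card, Fintype.card_subtype]
  change 2 * T.card + 1 ≤ _
  have hcN : ∀ s ∈ S, s ≠ 1 → Subgroup.centralizer ({s} : Set X) ≤ Subgroup.normalizer (S : Set X) :=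
    fun s hs h1 => (hcent s hs h1).trans Subgroup.le_normalizer
  have hT : ∀ p ∈ T, p.1 ∈ S ∧ IsConj x p.1 := by
    intro p hp
    obtain ⟨h1, h2, h3⟩ := (Finset.mem_filter.1 hp).2
    exact ⟨(mem_of_product S hcomm hexp hidx hcN hx (inv_mem hx) hx1 (inv_ne_one.2 hx1)
      (fun n _ => hreal n) h1 h2 (h3 ▸ hx) (h3 ▸ hx1)).1, h1⟩
  set A := T.image Prod.fst
  have hA : A.card = T.card := Finset.card_image_of_injOn fun p hp q hq e => by
    have h3 := (Finset.mem_filter.1 hp).2.2.2
    have h3' := (Finset.mem_filter.1 hq).2.2.2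
    refine Prod.ext e (mul_left_cancel (a := p.1) ?_)
    rw [h3, e, h3']
  have hAS : ∀ a ∈ A, a ∈ S ∧ IsConj x a := fun a ha => by
    obtain ⟨p, hp, rfl⟩ := Finset.mem_image.1 ha
    exact hT p hp
  have hinv : ∀ a, IsConj x a → IsConj x a⁻¹ → False := fun a h1 h2 => by
    obtain ⟨g, rfl⟩ := isConj_iff.1 h1
    obtain ⟨k, hk⟩ := isConj_iff.1 h2
    refine hreal (g⁻¹ * k) ?_
    calc g⁻¹ * k * x * (g⁻¹ * k)⁻¹ = g⁻¹ * (k * x * k⁻¹) * g := by group
      _ = x⁻¹ := by rw [hk]; group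
  have hd : Disjoint A (A.image (·⁻¹)) := Finset.disjoint_left.2 fun a ha ha' => by
    obtain ⟨b, hb, rfl⟩ := Finset.mem_image.1 ha'
    exact hinv b (hAS b hb).2 (hAS _ ha).2
  have h1 : (1 : X) ∉ A ∪ A.image (·⁻¹) := fun h => by
    have key : ∀ a ∈ A, a ≠ 1 := fun a ha e => hx1 (isConj_one_left.1 (e ▸ (hAS a ha).2))
    rcases Finset.mem_union.1 h with h | h
    · exact key 1 h rfl
    · obtain ⟨b, hb, e⟩ := Finset.mem_image.1 h
      exact key b hb (inv_eq_one.1 e)
  have hle : (insert 1 (A ∪ A.image (·⁻¹))).card ≤ Nat.card S := by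
    rw [← Nat.card_eq_finsetCard]
    refine Nat.card_le_card_of_injective (fun a => (⟨a.1, ?_⟩ : S)) fun a b e => Subtype.ext (by
      simpa using congrArg Subtype.val e)
    rcases Finset.mem_insert.1 a.2 with e | h
    · rw [e]; exact one_mem S
    rcases Finset.mem_union.1 h with h | h
    · exact (hAS _ h).1
    · obtain ⟨b, hb, e⟩ := Finset.mem_image.1 h
      exact e ▸ inv_mem (hAS b hb).1
  rw [Finset.card_insert_of_notMem h1, Finset.card_union_of_disjoint hd,
    Finset.card_image_of_injective _ inv_injective, hA] at hle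
  omega

include hcomm hexp hidx hcent hx hx1 hreal in
theorem eq_top_of_cent (hq : 8 < Nat.card S) (hSL : S ≤ L)
    (hLcard : 2 * Nat.card L = Nat.card S * (Nat.card S ^ 2 - 1))
    (hfuse : ∀ s ∈ S, s ≠ 1 → ∃ l ∈ L, l * x * l⁻¹ = s ∨ l * x⁻¹ * l⁻¹ = s) : L = ⊤ := by
  classical
  haveI : Fact (Nat.Prime 3) := ⟨Nat.prime_three⟩
  haveI := Fintype.ofFinite X
  haveI := Fintype.ofFinite S
  set q := Nat.card S with hqdef
  have hC : Nat.card (Subgroup.centralizer ({x} : Set X)) = q := by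
    have : Subgroup.centralizer ({x} : Set X) = S := le_antisymm (hcent x hx hx1) fun s hs =>
      Subgroup.mem_centralizer_singleton_iff.2 (hcomm s hs x hx)
    rw [this]
  have hC' : Nat.card (Subgroup.centralizer ({x⁻¹} : Set X)) = q := by
    have : Subgroup.centralizer ({x⁻¹} : Set X) = Subgroup.centralizer ({x} : Set X) := by
      ext g
      simp only [Subgroup.mem_centralizer_singleton_iff]
      constructor <;> intro h
      · simpa using (Commute.inv_right (show Commute g x⁻¹ from h)).eq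
      · exact (Commute.inv_right (show Commute g x from h)).eq
    rw [this, hC]
  -- integrality of the values
  have hval : ∀ χ ∈ irrFinset X, ∃ (d : ℕ) (A B : ℤ), 0 < d ∧ χ 1 = (d : ℂ) ∧
      (A : ℝ) = 2 * (χ x).re ∧ (B : ℝ) = Complex.normSq (χ x) ∧
      0 ≤ (d : ℝ) + ((q : ℝ) - 1) * (χ x).re := by
    intro χ hχ
    have hirr := mem_irrFinset.1 hχ
    have hch := IsIrrCharacter.isCharacter hirr
    obtain ⟨d, hd0, hd⟩ := IsIrrCharacter.exists_degree hirr
    set v := χ x
    have hS : ∀ s : S, s ≠ 1 → χ s = v ∨ χ s = conj v := by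
      intro s hs
      obtain ⟨l, -, e | e⟩ := hfuse s s.2 fun e => hs (Subtype.ext e)
      · exact Or.inl ((congrArg χ e).symm.trans (IsCharacter.isClassFunction hch x l))
      · right
        rw [← IsIrrCharacter.apply_inv hirr]
        exact (congrArg χ e).symm.trans (IsCharacter.isClassFunction hch x⁻¹ l)
    obtain ⟨m, hm⟩ := IsCharacter.exists_classInner_eq_natCast'
      (IsCharacter.restrict hch S) (isCharacter_one (G := S))
    obtain ⟨k, hk⟩ := IsCharacter.exists_classInner_eq_natCast'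
      (IsCharacter.restrict hch S) (IsCharacter.restrict hch S)
    rw [classInner_def] at hm hk
    have hq0 : (Fintype.card S : ℂ) ≠ 0 := by exact_mod_cast Fintype.card_ne_zero
    simp only [Nat.card_eq_fintype_card] at hm hk
    simp only [map_one, mul_one] at hm
    have hsplit : ∀ f : S → ℝ, ∀ c : ℝ, (∀ s, s ≠ 1 → f s = c) →
        ∑ s, f s = f 1 + ((q : ℝ) - 1) * c := by
      intro f c hf
      rw [← Finset.add_sum_erase _ _ (Finset.mem_univ 1),
        Finset.sum_congr rfl fun s hs => hf s (Finset.ne_of_mem_erase hs), Finset.sum_const,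
        Finset.card_erase_of_mem (Finset.mem_univ _), Finset.card_univ, hqdef,
        Nat.card_eq_fintype_card, nsmul_eq_mul, Nat.cast_sub Fintype.card_pos, Nat.cast_one]
    have hre : (q : ℝ) * m = (d : ℝ) + ((q : ℝ) - 1) * v.re := by
      have h : ∑ s : S, χ s = (Fintype.card S : ℂ) * m := by
        rw [← hm]; field_simp
      have h' := congrArg Complex.re h
      rw [Complex.re_sum, hsplit _ v.re fun s hs => by rcases hS s hs with e | e <;> simp [e]] at h'
      simpa [hd, hqdef] using h'.symm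
    have hns : (q : ℝ) * k = (d : ℝ) * d + ((q : ℝ) - 1) * Complex.normSq v := by
      have h : ∑ s : S, χ s * conj (χ s) = (Fintype.card S : ℂ) * k := by
        rw [← hk]; field_simp
      simp only [Complex.mul_conj] at h
      have h' := congrArg Complex.re h
      rw [Complex.re_sum] at h'
      simp only [Complex.ofReal_re] at h'
      rw [hsplit _ (Complex.normSq v) fun s hs => by rcases hS s hs with e | e <;> simp [e]] at h'
      simpa [hd, hqdef] using h'.symm
    have hq1 : (q : ℝ) - 1 ≠ 0 := by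
      have : (8 : ℝ) < q := by exact_mod_cast hq
      linarith
    have hint := IsCharacter.isIntegral hch x
    have hintc : IsIntegral ℤ (conj v) := by
      rw [← IsIrrCharacter.apply_inv hirr]; exact IsCharacter.isIntegral hch _
    obtain ⟨A, hA, -⟩ := exists_int_of_isIntegral_rat (2 * (((q : ℚ) * m - d) / ((q : ℚ) - 1)))
      (z := v + conj v) (hint.add hintc) (by
        rw [Complex.add_conj]
        rw [show v.re = ((q : ℝ) * m - d) / ((q : ℝ) - 1) by rw [eq_div_iff hq1]; linarith]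
        push_cast; ring)
    obtain ⟨B, hB, -⟩ := exists_int_of_isIntegral_rat ((((q : ℚ) * k - d * d) / ((q : ℚ) - 1)))
      (z := v * conj v) (hint.mul hintc) (by
        rw [Complex.mul_conj]
        rw [show Complex.normSq v = ((q : ℝ) * k - d * d) / ((q : ℝ) - 1) by
          rw [eq_div_iff hq1]; linarith]
        push_cast; ring)
    refine ⟨d, A, B, hd0, hd, ?_, ?_, hre ▸ by positivity⟩
    · have := congrArg Complex.re hA
      rw [Complex.add_conj] at this
      simpa using this.symm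
    · rw [Complex.mul_conj] at hB
      have := congrArg Complex.re hB
      simpa using this.symm
  choose! d A B hd0 hd hA hB hpos using hval
  -- the orthogonality relations
  have ho1 : ∑ χ ∈ irrFinset X, (B χ : ℝ) = q := by
    have h := sum_irr_mul_conj (G := X) x x
    rw [if_pos (IsConj.refl x), hC] at h
    simp only [Complex.mul_conj] at h
    rw [Finset.sum_congr rfl fun χ hχ => hB χ hχ]
    exact_mod_cast h
  have ho2 : ∑ χ ∈ irrFinset X, (d χ : ℝ) * (χ x).re = 0 := by
    have h := congrArg Complex.re (sum_degree_mul_apply (G := X) x)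
    rw [if_neg hx1, Complex.re_sum, Complex.zero_re] at h
    rw [← h]
    exact Finset.sum_congr rfl fun χ hχ => by rw [hd χ hχ]; simp
  set one : X → ℂ := fun _ => 1
  have hone : one ∈ irrFinset X := mem_irrFinset.2 isIrrCharacter_one
  have hd1 : d one = 1 := by
    have h := hd one hone
    simp [one] at h
    exact_mod_cast h.symm
  have hB1 : B one = 1 := by exact_mod_cast (show (B one : ℝ) = 1 by rw [hB one hone]; simp [one])
  set rest := (irrFinset X).erase one
  -- some other character has positive real value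
  obtain ⟨φ, hφ, hφpos⟩ : ∃ φ ∈ rest, 0 < (φ x).re := by
    by_contra! hall
    rw [← Finset.add_sum_erase _ _ hone, hd1] at ho2
    simp only [one, Complex.one_re, Nat.cast_one, mul_one] at ho2
    obtain ⟨φ, hφ, hne⟩ : ∃ φ ∈ rest, (φ x).re ≠ 0 := by
      by_contra! h0
      rw [Finset.sum_eq_zero fun χ hχ => by rw [h0 χ hχ, mul_zero]] at ho2
      norm_num at ho2
    have hlt : (φ x).re < 0 := lt_of_le_of_ne (hall φ hφ) hne
    have hle : -((d φ : ℝ) * (φ x).re) ≤ 1 := by
      have := Finset.single_le_sum (f := fun χ => -((d χ : ℝ) * (χ x).re))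
        (fun χ hχ => neg_nonneg.2 (mul_nonpos_of_nonneg_of_nonpos (Nat.cast_nonneg _) (hall χ hχ))) hφ
      rw [Finset.sum_neg_distrib] at this
      linarith
    have h := Finset.mem_of_mem_erase hφ
    have hAneg : (A φ : ℤ) ≤ -1 := by
      have : (A φ : ℝ) < 0 := by rw [hA φ h]; linarith
      have : A φ < 0 := by exact_mod_cast this
      omega
    have h2 : (φ x).re ≤ -(1 / 2) := by
      have : (A φ : ℝ) ≤ -1 := by exact_mod_cast hAneg
      rw [hA φ h] at this; linarith
    have h3 := hpos φ h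
    have hq' : (9 : ℝ) ≤ q := by exact_mod_cast hq
    nlinarith
  have hφ' := Finset.mem_of_mem_erase hφ
  have hBφ : (1 : ℝ) ≤ B φ := by
    have h0 : (0 : ℝ) < B φ := by
      rw [hB φ hφ']
      exact Complex.normSq_pos.2 fun e => by simp [e] at hφpos
    have : 1 ≤ B φ := by exact_mod_cast h0
    exact_mod_cast this
  -- the class multiplication sum
  set sR := ∑ χ ∈ irrFinset X, (B χ : ℝ) * (χ x).re / (d χ : ℝ)
  have hq' : (9 : ℝ) ≤ q := by exact_mod_cast hq
  have hsR : 1 / ((q : ℝ) - 1) ≤ sR := by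
    have hB0 : ∀ χ ∈ irrFinset X, (0 : ℝ) ≤ B χ := fun χ hχ => hB χ hχ ▸ Complex.normSq_nonneg _
    have hterm : ∀ χ ∈ irrFinset X, -((B χ : ℝ) / ((q : ℝ) - 1)) ≤ (B χ : ℝ) * (χ x).re / (d χ : ℝ) := by
      intro χ hχ
      have hdp : (0 : ℝ) < d χ := by exact_mod_cast hd0 χ hχ
      rw [le_div_iff₀ hdp, neg_mul, div_mul_eq_mul_div, neg_le, le_div_iff₀ (by linarith)]
      nlinarith [hpos χ hχ, hB0 χ hχ]
    have hφterm : 0 ≤ (B φ : ℝ) * (φ x).re / (d φ : ℝ) :=
      div_nonneg (mul_nonneg (hB0 φ hφ') hφpos.le) (Nat.cast_nonneg _)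
    have e1 : sR = 1 + ((B φ : ℝ) * (φ x).re / (d φ : ℝ) +
        ∑ χ ∈ rest.erase φ, (B χ : ℝ) * (χ x).re / (d χ : ℝ)) := by
      rw [show sR = _ from (Finset.add_sum_erase _ _ hone).symm,
        ← Finset.add_sum_erase _ _ hφ, hd1, hB1]
      simp [one]
    have e2 : (1 : ℝ) + ((B φ : ℝ) + ∑ χ ∈ rest.erase φ, (B χ : ℝ)) = q := by
      rw [← ho1, ← Finset.add_sum_erase _ _ hone, ← Finset.add_sum_erase _ _ hφ, hB1]
      simp
    have h3 : -((∑ χ ∈ rest.erase φ, (B χ : ℝ)) / ((q : ℝ) - 1)) ≤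
        ∑ χ ∈ rest.erase φ, (B χ : ℝ) * (χ x).re / (d χ : ℝ) := by
      rw [Finset.sum_div, ← Finset.sum_neg_distrib]
      exact Finset.sum_le_sum fun χ hχ =>
        hterm χ (Finset.mem_of_mem_erase (Finset.mem_of_mem_erase hχ))
    have h4 : (∑ χ ∈ rest.erase φ, (B χ : ℝ)) / ((q : ℝ) - 1) ≤ ((q : ℝ) - 2) / ((q : ℝ) - 1) :=
      div_le_div_of_nonneg_right (by linarith) (by linarith)
    have h5 : ((q : ℝ) - 2) / ((q : ℝ) - 1) + 1 / ((q : ℝ) - 1) = 1 := by
      rw [← add_div, div_eq_one_iff_eq (by linarith)]; ring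
    linarith
  set n := Nat.card {p : X × X // IsConj x p.1 ∧ IsConj x⁻¹ p.2 ∧ p.1 * p.2 = x}
  have hn : (Nat.card X : ℝ) * sR = (n : ℝ) * ((q : ℝ) * q) := by
    have h := card_class_products (G := X) x x⁻¹ x
    have hc1 : (Nat.card {y : X // IsConj x y} : ℂ) * q = Nat.card X := by
      rw [← hC]; exact_mod_cast card_conj_class_mul_card_centralizer x
    have hc2 : (Nat.card {y : X // IsConj x⁻¹ y} : ℂ) * q = Nat.card X := by
      rw [← hC']; exact_mod_cast card_conj_class_mul_card_centralizer x⁻¹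
    have hq0 : (q : ℂ) ≠ 0 := by exact_mod_cast (show q ≠ 0 by omega)
    have hX0 : (Nat.card X : ℂ) ≠ 0 := by simp
    rw [show (Nat.card {y : X // IsConj x y} : ℂ) = Nat.card X / q by rw [← hc1]; field_simp,
      show (Nat.card {y : X // IsConj x⁻¹ y} : ℂ) = Nat.card X / q by rw [← hc2]; field_simp] at h
    have h' : (n : ℂ) * ((q : ℂ) * q) =
        (Nat.card X : ℂ) * ∑ χ ∈ irrFinset X, χ x * χ x⁻¹ * conj (χ x) / χ 1 := by
      rw [h]; field_simp
    have h'' := congrArg Complex.re h'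
    rw [show (n : ℂ) * ((q : ℂ) * q) = (((n : ℝ) * ((q : ℝ) * q) : ℝ) : ℂ) by push_cast; rfl,
      Complex.ofReal_re, show (Nat.card X : ℂ) = ((Nat.card X : ℝ) : ℂ) by simp,
      Complex.re_ofReal_mul, Complex.re_sum] at h''
    rw [h'']
    refine congrArg _ (Finset.sum_congr rfl fun χ hχ => ?_)
    rw [hd χ hχ, IsIrrCharacter.apply_inv (mem_irrFinset.1 hχ), Complex.mul_conj, hB χ hχ]
    rw [Complex.div_natCast_re, Complex.re_ofReal_mul, Complex.conj_re]
  have h2n : (2 * n + 1 : ℝ) ≤ q := by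
    exact_mod_cast two_mul_card_triples S hcomm hexp hidx hcent hx hx1 hreal
  have hXle : 2 * (Nat.card X : ℝ) ≤ ((q : ℝ) - 1) * ((q : ℝ) - 1) * ((q : ℝ) * q) := by
    have hX : (0 : ℝ) ≤ Nat.card X := Nat.cast_nonneg _
    have h1 : (Nat.card X : ℝ) ≤ (Nat.card X : ℝ) * sR * ((q : ℝ) - 1) := by
      have := mul_le_mul_of_nonneg_left hsR hX
      rw [mul_one_div, div_le_iff₀ (by linarith)] at this
      linarith
    rw [hn] at h1
    nlinarith [mul_nonneg (mul_nonneg (by linarith : (0:ℝ) ≤ (q:ℝ) - 1) (mul_self_nonneg (q:ℝ)))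
      (by linarith : (0:ℝ) ≤ (q:ℝ) - 1 - 2 * n)]
  -- the index is congruent to one
  by_contra hne
  have hfree : ∀ (s : S) (g : X), g ∉ L → g⁻¹ * (s : X) * g ∈ L → s = 1 := by
    intro s g hg hsL
    by_contra hs
    set s' := g⁻¹ * (s : X) * g with hs'
    have hs'3 : s' ^ 3 = 1 := by
      rw [hs', show g⁻¹ * (s : X) * g = g⁻¹ * (s : X) * g⁻¹⁻¹ by group, conj_pow, hexp s s.2]; group
    obtain ⟨l, hl⟩ := exists_conj_mem (S.subgroupOf L) (fun a ha => Subtype.ext (by
        simpa using hexp _ ha))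
      (fun h => hidx (h.trans (Subgroup.relIndex_dvd_index_of_le hSL)))
      (w := (⟨s', hsL⟩ : L)) (Subtype.ext (by simpa using hs'3))
    have hlS : (l : X) * s' * (l : X)⁻¹ ∈ S := hl
    have hls1 : (l : X) * s' * (l : X)⁻¹ ≠ 1 := fun e => hs (Subtype.ext (by
      calc (s : X) = g * (l : X)⁻¹ * ((l : X) * s' * (l : X)⁻¹) * ((l : X) * g⁻¹) := by rw [hs']; group
        _ = 1 := by rw [e]; group))
    obtain ⟨m, hmL, hm⟩ := hfuse _ hlS hls1
    obtain ⟨p, hpL, hp⟩ := hfuse s s.2 fun e => hs (Subtype.ext e)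
    have hin : p⁻¹ * g * (l : X)⁻¹ * m ∈ Subgroup.centralizer ({x} : Set X) → False := fun h => by
      refine hg ?_
      have := mul_mem (mul_mem (mul_mem hpL (hSL (hcent x hx hx1 h))) (inv_mem hmL)) l.2
      rwa [show p * (p⁻¹ * g * (l : X)⁻¹ * m) * m⁻¹ * l = g by group] at this
    have key : ∀ a b : X, m * a * m⁻¹ = (l : X) * s' * (l : X)⁻¹ → p * b * p⁻¹ = s →
        (p⁻¹ * g * (l : X)⁻¹ * m) * a * (p⁻¹ * g * (l : X)⁻¹ * m)⁻¹ = b := fun a b ha hb => by
      calc (p⁻¹ * g * (l : X)⁻¹ * m) * a * (p⁻¹ * g * (l : X)⁻¹ * m)⁻¹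
          = p⁻¹ * g * (l : X)⁻¹ * (m * a * m⁻¹) * ((l : X) * g⁻¹ * p) := by group
        _ = p⁻¹ * s * p := by rw [ha, hs']; group
        _ = b := by rw [← hb]; group
    rcases hm with hm | hm <;> rcases hp with hp | hp
    · exact hin (Subgroup.mem_centralizer_singleton_iff.2 (mul_inv_eq_iff_eq_mul.1 (key x x hm hp)))
    · exact hreal _ (key x x⁻¹ hm hp)
    · have := congrArg (·⁻¹) (key x⁻¹ x hm hp)
      simp only [conj_inv, inv_inv] at this
      exact hreal _ this
    · have := congrArg (·⁻¹) (key x⁻¹ x⁻¹ hm hp)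
      simp only [conj_inv, inv_inv] at this
      exact hin (Subgroup.mem_centralizer_singleton_iff.2 (mul_inv_eq_iff_eq_mul.1 this))
  have hnot : ∀ c : {c : X ⧸ L // c ≠ ((1 : X) : X ⧸ L)}, ∀ g : X, (g : X ⧸ L) = c.1 → g ∉ L :=
    fun c g e h => c.2 (by rw [← e, QuotientGroup.eq]; simpa using h)
  letI : MulAction S {c : X ⧸ L // c ≠ ((1 : X) : X ⧸ L)} :=
    { smul := fun s c => ⟨(s : X) • c.1, fun e => by
        refine c.2 ?_
        have h := congrArg (fun t => ((s : X))⁻¹ • t) e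
        simp only [inv_smul_smul] at h
        rw [h, MulAction.Quotient.smul_mk, smul_eq_mul, mul_one, QuotientGroup.eq, inv_inv, mul_one]
        exact hSL s.2⟩
      one_smul := fun c => Subtype.ext (one_smul X c.1)
      mul_smul := fun s t c => Subtype.ext (mul_smul (s : X) (t : X) c.1) }
  have hdvd : q ∣ Nat.card {c : X ⧸ L // c ≠ ((1 : X) : X ⧸ L)} :=
    PSpFourNormM.card_dvd_of_free fun s c e => by
      obtain ⟨g, hg⟩ := QuotientGroup.mk_surjective c.1
      refine hfree s g (hnot c g hg) ?_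
      have e' : (s : X) • c.1 = c.1 := congrArg Subtype.val e
      rw [← hg, MulAction.Quotient.smul_mk, smul_eq_mul, QuotientGroup.eq, mul_inv_rev] at e'
      simpa [mul_assoc] using inv_mem e'
  have hm : Nat.card {c : X ⧸ L // c ≠ ((1 : X) : X ⧸ L)} + 1 = L.index := by
    rw [← Finite.card_option, Subgroup.index_eq_card,
      Nat.card_congr (Equiv.optionSubtypeNe ((1 : X) : X ⧸ L))]
  obtain ⟨r, hr⟩ := hdvd
  have hr0 : 0 < r := by
    rcases Nat.eq_zero_or_pos r with rfl | h
    · exact absurd (Subgroup.index_eq_one.1 (by omega)) hne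
    · exact h
  have hidx' : q + 1 ≤ L.index := by
    rw [← hm, hr]; nlinarith
  have hcardX : Nat.card L * L.index = Nat.card X := L.card_mul_index
  have hq2 : ((q ^ 2 - 1 : ℕ) : ℝ) = (q : ℝ) * q - 1 := by
    rw [Nat.cast_sub (Nat.one_le_pow _ _ (by omega))]; push_cast; ring
  have hL2 : 2 * (Nat.card L : ℝ) = (q : ℝ) * ((q : ℝ) * q - 1) := by
    rw [← hq2]; exact_mod_cast hLcard
  have hi2 : (q : ℝ) + 1 ≤ L.index := by exact_mod_cast hidx'
  have hX2 : (Nat.card L : ℝ) * L.index = Nat.card X := by exact_mod_cast hcardX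
  have hL0 : (0 : ℝ) ≤ Nat.card L := Nat.cast_nonneg _
  have hge : (q : ℝ) * ((q : ℝ) * q - 1) * ((q : ℝ) + 1) ≤ 2 * (Nat.card X : ℝ) := by
    rw [← hL2, ← hX2]; nlinarith
  nlinarith [hge, hXle, mul_pos (mul_pos (by linarith : (0:ℝ) < q) (by linarith : (0:ℝ) < (q:ℝ) - 1))
    (by linarith : (0:ℝ) < q)]

end CfsgLib.PSpFourThreePower
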