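import Cfsg.Agent.PSpFourThreePower.Setup
import Cfsg.Agent.PSpFourThreePower.CentQuot
import Cfsg.Agent.SL2C.Basic

/-!
The centralisers of subgroups of the complement, and the commuting pair of complements.
-/

set_option autoImplicit false
set_option linter.unusedSectionVars false
set_option linter.style.haveILetI false
set_option maxHeartbeats 400000

open scoped Classical
open CfsgLib.PSpFourNormM CfsgLib.PSpFourTypeThree

namespace CfsgLib.PSpFourThreePower

/-- An elementary subgroup containing the centralisers of its elements is a Sylow subgroup. -/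
theorem not_dvd_index_of_cent {X : Type*} [Group X] [Finite X] (S : Subgroup X)
    (hexp : ∀ a ∈ S, a ^ 3 = 1) (hne : S ≠ ⊥)
    (hcent : ∀ s ∈ S, s ≠ 1 → Subgroup.centralizer ({s} : Set X) ≤ S) : ¬ 3 ∣ S.index := by
  haveI : Fact (Nat.Prime 3) := ⟨Nat.prime_three⟩
  have hSp : IsPGroup 3 S := fun g => ⟨1, Subtype.ext (by simpa using hexp _ g.2)⟩
  obtain ⟨P, hP⟩ := hSp.exists_le_sylow
  suffices h : (P : Subgroup X) ≤ S by
    rw [← le_antisymm h hP]; exact P.not_dvd_index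
  obtain ⟨⟨s, hs⟩, hs1⟩ := Subgroup.ne_bot_iff_exists_ne_one.1 hne
  haveI : Nontrivial (P : Subgroup X) :=
    ⟨⟨⟨s, hP hs⟩, 1, fun e => hs1 (Subtype.ext (congrArg Subtype.val e :))⟩⟩
  haveI := P.isPGroup'.center_nontrivial
  obtain ⟨c, hc, hc1⟩ := Subgroup.exists_ne_one_of_nontrivial (Subgroup.center (P : Subgroup X))
  have hcc : ∀ v : (P : Subgroup X), v * c = c * v := Subgroup.mem_center_iff.1 hc
  have hcS : (c : X) ∈ S := hcent s hs (fun e => hs1 (Subtype.ext e))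
    (Subgroup.mem_centralizer_singleton_iff.2 (congrArg Subtype.val (hcc ⟨s, hP hs⟩)).symm)
  exact fun v hv => hcent c hcS (fun e => hc1 (Subtype.ext e))
    (Subgroup.mem_centralizer_singleton_iff.2 (congrArg Subtype.val (hcc ⟨v, hv⟩) :))

section Matrices

variable {F : Type*} [Field F] [CharP F 3]

theorem central_sl {B : Matrix.SpecialLinearGroup (Fin 2) F} (h : ∀ A, B * A = A * B) :
    B = 1 ∨ B = dS (-1) := by
  have g := fun A i j => congrFun (congrFun (congrArg Subtype.val (h A)) i) j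
  have h10 := g (uS 1) 0 0
  have h00 := g (uS 1) 0 1
  have h01 := g (iS F) 0 0
  simp [Matrix.SpecialLinearGroup.coe_mul, Matrix.mul_apply, Fin.sum_univ_two] at h10 h00 h01
  have hd := B.2
  rw [Matrix.det_fin_two] at hd
  have hb : B.1 0 1 = 0 := by linear_combination (-1 : F) * h01 - h10
  have hc : B.1 1 0 = 0 := h10
  have he : B.1 1 1 = B.1 0 0 := by linear_combination -h00 - hb + hb
  rcases mul_self_eq_one_iff.1 (show B.1 0 0 * B.1 0 0 = 1 by
    linear_combination hd - B.1 0 0 * he + B.1 1 0 * hb) with e | e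
  · left
    refine Subtype.ext ?_
    ext i j
    fin_cases i <;> fin_cases j <;> simp [hb, hc, he, e]
  · right
    refine Subtype.ext ?_
    ext i j
    fin_cases i <;> fin_cases j <;> simp [hb, hc, he, e]

end Matrices

variable {F : Type*} [Field F] [Fintype F] {G : Type*} [Group G] [Finite G] {α : G}
  (Φ : Frame F (Subgroup.centralizer ({α} : Set G)))

/-- The second complement. -/
def elHom₂ (w : G) : Matrix.SpecialLinearGroup (Fin 2) F →* G :=
  (MulAut.conj w).toMonoidHom.comp (elHom Φ)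

theorem elHom₂_apply (w : G) (A : Matrix.SpecialLinearGroup (Fin 2) F) :
    elHom₂ Φ w A = w * elHom Φ A * w⁻¹ := rfl

theorem elHom_injective : Function.Injective (elHom Φ) := fun _ _ h => (Φ.inj _ _ _ _ h).2

theorem elHom₂_injective (w : G) : Function.Injective (elHom₂ Φ w) := fun _ _ h =>
  elHom_injective Φ (mul_left_cancel (mul_right_cancel h))

theorem jj_eq : jj Φ = elHom Φ (dS (-1)) := rfl

theorem z_mul_el (a : F) (A : Matrix.SpecialLinearGroup (Fin 2) F) :
    Φ.el (0, 0, a) A = Φ.mM (a, 0, 0) * elHom Φ A := by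
  show _ = Φ.el (0, 0, a) (uS 0) * Φ.el 0 A
  rw [uS_zero, Φ.mul, one_mul]
  congr 1
  simp [vmul]

namespace Setup

variable {Φ} {P : Sylow 3 G} {M : Subgroup G} {w : G} (K : Setup Φ P M w)
include K

theorem elHom₂_uS (t : F) : elHom₂ Φ w (uS t) = Φ.mM (t, 0, 0) := by
  rw [elHom₂_apply, show elHom Φ (uS t) = Φ.mM (0, 0, t) from rfl, K.w_mM, neg_zero]

theorem elHom₂_dS (l : Fˣ) : elHom₂ Φ w (dS l) = h' Φ w l := rfl

theorem elHom₂_jj : elHom₂ Φ w (dS (-1)) = jj Φ := by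
  rw [elHom₂_apply, ← jj_eq, K.hwj, mul_inv_cancel_right]

theorem elHom₂_comm_jj (A : Matrix.SpecialLinearGroup (Fin 2) F) :
    elHom₂ Φ w A * jj Φ = jj Φ * elHom₂ Φ w A := by
  haveI := K.char
  rw [← K.elHom₂_jj, ← map_mul, ← map_mul, dS_neg_one_comm]

theorem w_elHom₂ (A : Matrix.SpecialLinearGroup (Fin 2) F) :
    w * elHom₂ Φ w A * w⁻¹ = elHom Φ A := by
  rw [elHom₂_apply, K.w_inv]
  calc w * (w * elHom Φ A * w) * w = (w * w) * elHom Φ A * (w * w) := by group
    _ = _ := by rw [K.hw2, one_mul, mul_one]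

/-- For `K0` with `C_L(K0) ≤ K0` and centralised by the second
complement, `C(K0)` is the product of the second complement and `C_L(K0)`. -/
theorem centK (K0 : Subgroup G) (hj : jj Φ ∈ K0)
    (hcl : ∀ A, (∀ x ∈ K0, elHom Φ A * x = x * elHom Φ A) → elHom Φ A ∈ K0)
    (h3 : ¬ 3 ∣ Nat.card K0)
    (h2 : ∀ x ∈ K0, ∀ B, elHom₂ Φ w B * x = x * elHom₂ Φ w B)
    {g : G} (hg : ∀ x ∈ K0, g * x = x * g) :
    ∃ B A, g = elHom₂ Φ w B * elHom Φ A ∧ elHom Φ A ∈ K0 ∧
      ∀ x ∈ K0, elHom Φ A * x = x * elHom Φ A := by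
  haveI := K.char
  haveI : Fact (Nat.Prime 3) := ⟨Nat.prime_three⟩
  set X := Subgroup.centralizer (K0 : Set G) with hX
  have hXmem : ∀ {v : G}, (∀ x ∈ K0, v * x = x * v) → v ∈ X := fun h x hx => (h x hx).symm
  have hXc : ∀ v : X, ∀ x ∈ K0, (v : G) * x = x * v := fun v x hx => (v.2 x hx).symm
  set N : Subgroup X := (elHom Φ).range.subgroupOf X with hN
  have hNK : ∀ n ∈ N, ((n : X) : G) ∈ K0 := by
    rintro n ⟨A, hA⟩
    have := hcl A fun x hx => by rw [hA]; exact hXc n x hx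
    rwa [hA] at this
  have hNc : N ≤ Subgroup.center X := fun n hn =>
    Subgroup.mem_center_iff.2 fun v => Subtype.ext (hXc v _ (hNK n hn))
  haveI : N.Normal := ⟨fun n hn v => by
    rw [Subgroup.mem_center_iff.1 (hNc hn) v, mul_inv_cancel_right]; exact hn⟩
  set π := QuotientGroup.mk' N
  let ψ : Matrix.SpecialLinearGroup (Fin 2) F →* X :=
    (elHom₂ Φ w).codRestrict X fun B => hXmem fun x hx => h2 x hx B
  have hψ : ∀ B, ((ψ B : X) : G) = elHom₂ Φ w B := fun B => rfl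
  set ρ := π.comp ψ with hρ
  -- elements of `K0` commuting with an element of order three
  have hzn : ∀ (a : F) (n : X), n ∈ N → (ψ (uS a) * n) ^ 3 = 1 → n = 1 := by
    intro a n hn h
    have hc : Commute (ψ (uS a)) n := Subgroup.mem_center_iff.1 (hNc hn) _
    rw [hc.mul_pow, ← map_pow, show uS a ^ 3 = 1 by
      rw [pow_succ, pow_two, ← uS_add, ← uS_add, show a + a + a = 0 by linear_combination a * K.three,
        uS_zero], map_one, one_mul] at h
    have h1 : orderOf ((n : X) : G) ∣ 3 := orderOf_dvd_of_pow_eq_one (by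
      rw [← SubgroupClass.coe_pow, h]; rfl)
    have h2' : orderOf ((n : X) : G) ∣ Nat.card K0 := by
      rw [show ((n : X) : G) = ((⟨_, hNK n hn⟩ : K0) : G) from rfl, Subgroup.orderOf_coe]
      exact orderOf_dvd_natCard _
    have := Nat.dvd_gcd h1 h2'
    rw [Nat.Coprime.gcd_eq_one ((Nat.prime_three.coprime_iff_not_dvd).2 h3), Nat.dvd_one,
      orderOf_eq_one_iff] at this
    exact Subtype.ext this
  have hcube : ∀ a (v : X), (v * ψ (uS a) * v⁻¹) ^ 3 = 1 := fun a v => by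
    rw [conj_pow, ← map_pow, show uS a ^ 3 = 1 by
      rw [pow_succ, pow_two, ← uS_add, ← uS_add, show a + a + a = 0 by linear_combination a * K.three,
        uS_zero], map_one, mul_one, mul_inv_cancel]
  have hconj : ∀ (a b : F) (v : X), π v * ρ (uS a) * (π v)⁻¹ = ρ (uS b) →
      (v : G) * Φ.mM (a, 0, 0) * (v : G)⁻¹ = Φ.mM (b, 0, 0) := by
    intro a b v h
    rw [hρ, MonoidHom.comp_apply, MonoidHom.comp_apply, ← map_inv, ← map_mul, ← map_mul,
      QuotientGroup.mk'_apply, QuotientGroup.mk'_apply, eq_comm, QuotientGroup.eq] at h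
    have e := hzn b _ h (by rw [mul_inv_cancel_left]; exact hcube a v)
    rw [inv_mul_eq_one] at e
    have := congrArg Subtype.val e
    rw [Subgroup.coe_mul, Subgroup.coe_mul, hψ, hψ, K.elHom₂_uS, K.elHom₂_uS] at this
    exact this.symm
  set S : Subgroup (X ⧸ N) := (Subgroup.map ψ
    (Subgroup.closure (Set.range uS))).map π with hS
  have hUmem : ∀ A, A ∈ Subgroup.closure (Set.range (uS (F := F))) ↔ ∃ a, A = uS a := by
    intro A
    constructor
    · intro hA
      induction hA using Subgroup.closure_induction with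
      | mem x hx => obtain ⟨a, rfl⟩ := hx; exact ⟨a, rfl⟩
      | one => exact ⟨0, uS_zero.symm⟩
      | mul x y _ _ hx hy =>
        obtain ⟨a, rfl⟩ := hx; obtain ⟨b, rfl⟩ := hy; exact ⟨a + b, (uS_add a b).symm⟩
      | inv x _ hx =>
        obtain ⟨a, rfl⟩ := hx
        exact ⟨-a, inv_eq_of_mul_eq_one_right (by rw [← uS_add, add_neg_cancel, uS_zero])⟩
    · rintro ⟨a, rfl⟩; exact Subgroup.subset_closure ⟨a, rfl⟩
  have hSmem : ∀ s, s ∈ S ↔ ∃ a, s = ρ (uS a) := by
    intro s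
    rw [hS, Subgroup.map_map, Subgroup.mem_map]
    constructor
    · rintro ⟨A, hA, rfl⟩
      obtain ⟨a, rfl⟩ := (hUmem A).1 hA
      exact ⟨a, rfl⟩
    · rintro ⟨a, rfl⟩
      exact ⟨uS a, (hUmem _).2 ⟨a, rfl⟩, rfl⟩
  have hinj : ∀ a, ρ (uS a) = 1 → a = 0 := by
    intro a h
    have h1 : Φ.mM (a, 0, 0) = 1 := by
      have hn : ψ (uS a) ∈ N := (QuotientGroup.eq_one_iff _).1 h
      have := hzn (-a) _ hn (by
        rw [← map_mul, ← uS_add, neg_add_cancel, uS_zero, map_one, one_pow])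
      rw [← K.elHom₂_uS, ← hψ, this]; rfl
    by_contra ha
    exact z_ne_one Φ ha h1
  have hρadd : ∀ a b, ρ (uS a) * ρ (uS b) = ρ (uS (a + b)) := fun a b => by rw [← map_mul, ← uS_add]
  have hcardS : Nat.card S = Fintype.card F := by
    rw [← Nat.card_eq_fintype_card]
    refine (Nat.card_eq_of_bijective (fun a => (⟨ρ (uS a), (hSmem _).2 ⟨a, rfl⟩⟩ : S)) ⟨?_, ?_⟩).symm
    · intro a b h
      have h' : ρ (uS a) = ρ (uS b) := congrArg Subtype.val h
      refine sub_eq_zero.1 (hinj _ ?_)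
      have := hρadd (a - b) b
      rw [sub_add_cancel, h'] at this
      exact mul_eq_right.1 this
    · rintro ⟨s, hs⟩
      obtain ⟨a, rfl⟩ := (hSmem s).1 hs
      exact ⟨a, rfl⟩
  have hcomm : ∀ a ∈ S, ∀ b ∈ S, a * b = b * a := by
    intro a ha b hb
    obtain ⟨x, rfl⟩ := (hSmem a).1 ha
    obtain ⟨y, rfl⟩ := (hSmem b).1 hb
    rw [hρadd, hρadd, add_comm]
  have hexp : ∀ a ∈ S, a ^ 3 = 1 := by
    intro a ha
    obtain ⟨x, rfl⟩ := (hSmem a).1 ha
    rw [pow_succ, pow_two, hρadd, hρadd, show x + x + x = 0 by linear_combination x * K.three,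
      uS_zero, map_one]
  have hcent : ∀ s ∈ S, s ≠ 1 → Subgroup.centralizer ({s} : Set (X ⧸ N)) ≤ S := by
    intro s hs hs1 x hx
    obtain ⟨a, rfl⟩ := (hSmem s).1 hs
    have ha : a ≠ 0 := fun e => hs1 (by rw [e, uS_zero, map_one])
    obtain ⟨v, rfl⟩ := QuotientGroup.mk'_surjective N x
    have hv : (v : G) ∈ CA α := by
      refine mem_C_of_comm_z Φ K.hb ha (mul_inv_eq_iff_eq_mul.1 (hconj a a v ?_))
      rw [mul_inv_eq_iff_eq_mul]
      exact Subgroup.mem_centralizer_singleton_iff.1 hx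
    obtain ⟨a', A, e⟩ := K.C_inter_D hv (hXc v _ hj)
    rw [z_mul_el] at e
    have hAX : elHom Φ A ∈ X := by
      have : elHom Φ A = (Φ.mM (a', 0, 0))⁻¹ * (v : G) := by rw [e, inv_mul_cancel_left]
      rw [this, ← K.elHom₂_uS, ← hψ]
      exact X.mul_mem (X.inv_mem (ψ (uS a')).2) v.2
    refine (hSmem _).2 ⟨a', ?_⟩
    have hv' : v = ψ (uS a') * ⟨elHom Φ A, hAX⟩ := Subtype.ext (by
      rw [e, Subgroup.coe_mul, hψ, K.elHom₂_uS])
    rw [hv', map_mul, hρ, MonoidHom.comp_apply]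
    refine mul_eq_left.2 ((QuotientGroup.eq_one_iff _).2 ?_)
    exact ⟨A, rfl⟩
  have hbig := K.big
  have hidx : ¬ 3 ∣ S.index := not_dvd_index_of_cent S hexp (fun e => by
    rw [e, Subgroup.card_bot] at hcardS; omega) hcent
  have hx : ρ (uS 1) ∈ S := (hSmem _).2 ⟨1, rfl⟩
  have hx1 : ρ (uS 1) ≠ 1 := fun e => one_ne_zero (hinj 1 e)
  have hxi : (ρ (uS 1))⁻¹ = ρ (uS (-1)) := inv_eq_of_mul_eq_one_right (by
    rw [hρadd, add_neg_cancel, uS_zero, map_one])
  have hreal : ∀ y : X ⧸ N, y * ρ (uS 1) * y⁻¹ ≠ (ρ (uS 1))⁻¹ := by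
    intro y h
    obtain ⟨v, rfl⟩ := QuotientGroup.mk'_surjective N y
    rw [hxi] at h
    refine K.z_not_inv (one_ne_zero (α := F)) ((hconj 1 (-1) v h).trans ?_)
    refine (inv_eq_of_mul_eq_one_right ?_).symm
    rw [← Φ.mM_add, ← Φ.mM_zero]; congr 1; simp
  have hker : ∀ B, ρ B = 1 → B = 1 ∨ B = dS (-1) := by
    intro B h
    have hn : ψ B ∈ N := (QuotientGroup.eq_one_iff _).1 h
    refine central_sl fun A => elHom₂_injective Φ w ?_
    rw [map_mul, map_mul]
    exact (h2 _ (hNK _ hn) A).symm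
  have hρj : ρ (dS (-1)) = 1 := by
    refine (QuotientGroup.eq_one_iff _).2 ⟨dS (-1), ?_⟩
    rw [Subgroup.coe_subtype, hψ, K.elHom₂_jj, jj_eq]
  have hkcard : Nat.card ρ.ker = 2 := by
    refine Nat.card_eq_two_iff.2 ⟨1, ⟨dS (-1), hρj⟩, ?_, ?_⟩
    · intro e
      exact dS_neg_one_ne F (congrArg Subtype.val e).symm
    · ext ⟨B, hB⟩
      simp only [Set.mem_insert_iff, Set.mem_singleton_iff, Set.mem_univ, iff_true]
      rcases hker B hB with e | e
      · exact Or.inl (Subtype.ext e)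
      · exact Or.inr (Subtype.ext e)
  have hLcard : 2 * Nat.card ρ.range = Nat.card S * (Nat.card S ^ 2 - 1) := by
    rw [hcardS, ← CfsgLib.SL2C.card_SL2_mul, ρ.ker.card_eq_card_quotient_mul_card_subgroup, hkcard,
      Nat.card_congr (QuotientGroup.quotientKerEquivRange ρ).toEquiv, mul_comm]
  have hSL : S ≤ ρ.range := fun s hs => by
    obtain ⟨a, rfl⟩ := (hSmem s).1 hs
    exact ⟨_, rfl⟩
  have hfuse : ∀ s ∈ S, s ≠ 1 → ∃ l ∈ ρ.range,
      l * ρ (uS 1) * l⁻¹ = s ∨ l * (ρ (uS 1))⁻¹ * l⁻¹ = s := by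
    intro s hs hs1
    obtain ⟨a, rfl⟩ := (hSmem s).1 hs
    obtain ⟨t, ht⟩ := sq_or_neg_sq K.mod4 a
    have ht0 : t ≠ 0 := by
      rintro rfl
      refine hs1 ?_
      rcases ht with e | e
      · rw [← e, zero_mul, uS_zero, map_one]
      · rw [show a = 0 by linear_combination e, uS_zero, map_one]
    have hc : ∀ b : F, ρ (dS (Units.mk0 t ht0)) * ρ (uS b) * (ρ (dS (Units.mk0 t ht0)))⁻¹ =
        ρ (uS (t * t * b)) := fun b => by
      rw [← map_mul, dS_uS, map_mul, mul_inv_cancel_right]; rfl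
    refine ⟨ρ (dS (Units.mk0 t ht0)), ⟨_, rfl⟩, ?_⟩
    rcases ht with e | e
    · left; rw [hc, mul_one, e]
    · right; rw [hxi, hc, show t * t * (-1) = a by linear_combination (-1 : F) * e]
  have htop : ρ.range = ⊤ := eq_top_of_cent S ρ.range hcomm hexp hidx hcent hx hx1 hreal
    (by rw [hcardS]; have := K.card8; omega) hSL hLcard hfuse
  obtain ⟨B, hB⟩ : π ⟨g, hXmem hg⟩ ∈ ρ.range := htop ▸ Subgroup.mem_top _
  have hn : (ψ B)⁻¹ * ⟨g, hXmem hg⟩ ∈ N := QuotientGroup.eq.1 hB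
  obtain ⟨A, hA⟩ := id hn
  refine ⟨B, A, ?_, hA ▸ hNK _ hn, fun x hx => by rw [hA, Subgroup.coe_subtype]; exact hXc _ x hx⟩
  rw [hA, Subgroup.coe_subtype, Subgroup.coe_mul, Subgroup.coe_inv, hψ]
  exact (mul_inv_cancel_left _ _).symm

end Setup

end CfsgLib.PSpFourThreePower
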