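import Cfsg.Agent.PSpFourThreePower.Commute

/-!
The centraliser of `j` and of a point `(-1, 0, 1)` is `Z × U × ⟨j⟩`.
-/

set_option autoImplicit false
set_option linter.unusedSectionVars false
set_option linter.style.haveILetI false
set_option maxHeartbeats 400000

open scoped Classical
open CfsgLib.PSpFourNormM CfsgLib.PSpFourTypeThree

namespace CfsgLib.PSpFourThreePower

variable {F : Type*} [Field F] [Fintype F] {G : Type*} [Group G] [Finite G] {α : G}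
  {Φ : Frame F (Subgroup.centralizer ({α} : Set G))} {P : Sylow 3 G} {M : Subgroup G} {w : G}

namespace Setup

variable (K : Setup Φ P M w)
include K

theorem uS_cent {A : Matrix.SpecialLinearGroup (Fin 2) F} {c c' : F} (hc : c ≠ 0)
    (h : A * uS c = uS c' * A) : ∃ (t : F) (m : Fˣ), A = uS t * dS m ∧ c' = (m : F) * m * c := by
  have g := fun i j => congrFun (congrFun (congrArg Subtype.val h) i) j
  have g11 := g 1 1
  simp [Matrix.SpecialLinearGroup.coe_mul, Matrix.mul_apply, Fin.sum_univ_two] at g11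
  obtain ⟨m, t, rfl⟩ := sl_upper (g11.resolve_right hc)
  refine ⟨t, m, rfl, ?_⟩
  have g01 := g 0 1
  simp [Matrix.SpecialLinearGroup.coe_mul, Matrix.mul_apply, Fin.sum_univ_two] at g01
  have hm := m.ne_zero
  field_simp at g01
  linear_combination -g01

theorem jj_mM_comm (a c : F) : jj Φ * Φ.mM (a, 0, c) = Φ.mM (a, 0, c) * jj Φ :=
  mul_inv_eq_iff_eq_mul.1 (by rw [K.jj_mM, neg_zero])

theorem elHom_dS_pm {m : Fˣ} (h : (m : F) * m = 1) :
    elHom Φ (dS m) = 1 ∨ elHom Φ (dS m) = jj Φ := by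
  rcases mul_self_eq_one_iff.1 h with e | e
  · left; rw [show m = 1 from Units.ext e, dS_one, map_one]
  · right; rw [show m = -1 from Units.ext (by rw [e]; simp)]; rfl

theorem elHom₂_dS_pm {m : Fˣ} (h : (m : F) * m = 1) :
    elHom₂ Φ w (dS m) = 1 ∨ elHom₂ Φ w (dS m) = jj Φ := by
  rcases mul_self_eq_one_iff.1 h with e | e
  · left; rw [show m = 1 from Units.ext e, dS_one, map_one]
  · right; rw [show m = -1 from Units.ext (by rw [e]; simp), K.elHom₂_jj]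

/-- An element of `C(j)` normalising `Z × U` and `C` acts diagonally on `Z × U`. -/
theorem diag_form {y : G} (hyj : y * jj Φ = jj Φ * y) (hyC : y ∈ NC α)
    (hyU : ∃ a c, y * Φ.mM (0, 0, 1) * y⁻¹ = Φ.mM (a, 0, c)) :
    ∃ (a t : F) (l m : Fˣ), y = Φ.mM (a, 0, t) * elHom₂ Φ w (dS l) * elHom Φ (dS m) ∧
      ∀ a' c', y * Φ.mM (a', 0, c') * y⁻¹ = Φ.mM ((l : F) * l * a', 0, (m : F) * m * c') := by
  obtain ⟨l, hl⟩ := K.mem_NC_decomp hyC
  have hlj : ((h' Φ w l)⁻¹ * y) * jj Φ = jj Φ * ((h' Φ w l)⁻¹ * y) :=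
    ((show Commute (h' Φ w l) (jj Φ) from K.jj_comm_h' l).inv_left.mul_left
      (show Commute y (jj Φ) from hyj))
  obtain ⟨a, A, hA⟩ := K.C_inter_D hl hlj
  rw [z_mul_el] at hA
  have hy : y = h' Φ w l * (Φ.mM (a, 0, 0) * elHom Φ A) := by rw [← hA, mul_inv_cancel_left]
  obtain ⟨p, c, hp⟩ := hyU
  have hcA : A * uS 1 * A⁻¹ = uS c := by
    have h1 : y * Φ.mM (0, 0, 1) * y⁻¹ = elHom Φ (A * uS 1 * A⁻¹) := by
      have hu : Φ.mM (0, 0, 1) = elHom Φ (uS 1) := rfl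
      have hz := (show Commute (Φ.mM (a, 0, 0)) (elHom Φ (A * uS 1 * A⁻¹)) from
        (Φ.central_mM a _ (Φ.el_mem _ _)).symm)
      calc y * Φ.mM (0, 0, 1) * y⁻¹
          = h' Φ w l * (Φ.mM (a, 0, 0) * (elHom Φ A * elHom Φ (uS 1) * (elHom Φ A)⁻¹) *
              (Φ.mM (a, 0, 0))⁻¹) * (h' Φ w l)⁻¹ := by rw [hy, hu]; group
        _ = _ := by
          rw [← map_inv, ← map_mul, ← map_mul, hz.eq, mul_inv_cancel_right, K.h'_comm_el,
            mul_inv_cancel_right]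
    rw [h1] at hp
    exact (Φ.inj _ _ _ _ hp).2
  obtain ⟨t, m, rfl, -⟩ := K.uS_cent one_ne_zero (mul_inv_eq_iff_eq_mul.1 hcA)
  have hform : y = Φ.mM ((l : F) * l * a, 0, t) * elHom₂ Φ w (dS l) * elHom Φ (dS m) := by
    have h1 : h' Φ w l * Φ.mM (a, 0, t) = Φ.mM ((l : F) * l * a, 0, t) * h' Φ w l := by
      have := mul_inv_eq_iff_eq_mul.1 (K.h'_acts l a 0 t)
      simpa using this
    rw [hy, map_mul, show elHom Φ (uS t) = Φ.mM (0, 0, t) from rfl, K.elHom₂_dS, ← h1]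
    rw [← mul_assoc (Φ.mM (a, 0, 0)), ← Φ.mM_add, mul_assoc (h' Φ w l)]
    simp
  refine ⟨(l : F) * l * a, t, l, m, hform, fun a' c' => ?_⟩
  rw [hform]
  calc Φ.mM ((l : F) * l * a, 0, t) * elHom₂ Φ w (dS l) * elHom Φ (dS m) * Φ.mM (a', 0, c') *
        (Φ.mM ((l : F) * l * a, 0, t) * elHom₂ Φ w (dS l) * elHom Φ (dS m))⁻¹
      = Φ.mM ((l : F) * l * a, 0, t) * (h' Φ w l * (Φ.hH m * Φ.mM (a', 0, c') * (Φ.hH m)⁻¹) *
          (h' Φ w l)⁻¹) * (Φ.mM ((l : F) * l * a, 0, t))⁻¹ := by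
        rw [K.elHom₂_dS]; simp only [elHom_apply, Frame.hH]; group
    _ = Φ.mM ((l : F) * l * a, 0, t) * Φ.mM ((l : F) * l * a', 0, (m : F) * m * c') *
          (Φ.mM ((l : F) * l * a, 0, t))⁻¹ := by
        rw [acts_hH Φ m, hT_apply, mul_zero, K.h'_acts, mul_zero]
    _ = _ := by rw [← Φ.mM_add, add_comm, Φ.mM_add, mul_inv_cancel_right]

theorem zSub_not_cyclic : ¬ IsCyclic (zSub Φ) := by
  intro hcyc
  haveI := hcyc
  have h3 : Monoid.exponent (zSub Φ) ∣ 3 := Monoid.exponent_dvd_of_forall_pow_eq_one fun g =>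
    Subtype.ext (by
      obtain ⟨a, e⟩ := g.2
      simpa using K.M_cube _ (e ▸ K.mem_M _))
  rw [IsCyclic.exponent_eq_card, card_lineSub Φ _ inA1_inj] at h3
  have := Nat.le_of_dvd (by norm_num) h3
  have := K.big
  omega

/-- The centraliser of `j` and `(-1, 0, 1)`. -/
theorem cent_line {g : G} (hgj : g * jj Φ = jj Φ * g)
    (hgs : g * Φ.mM (-1, 0, 1) = Φ.mM (-1, 0, 1) * g) :
    ∃ a c, g = Φ.mM (a, 0, c) ∨ g = Φ.mM (a, 0, c) * jj Φ := by
  haveI := K.char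
  haveI : Fact (Nat.Prime 3) := ⟨Nat.prime_three⟩
  set D := Subgroup.centralizer ({jj Φ} : Set G) ⊓ Subgroup.centralizer ({Φ.mM (-1, 0, 1)} : Set G) with hD
  have hmem : ∀ {v : G}, v ∈ D → v * jj Φ = jj Φ * v ∧ v * Φ.mM (-1, 0, 1) = Φ.mM (-1, 0, 1) * v :=
    fun h => ⟨Subgroup.mem_centralizer_singleton_iff.1 h.1, Subgroup.mem_centralizer_singleton_iff.1 h.2⟩
  let Good : Subgroup G :=
    { carrier := {v | ∃ a c, v = Φ.mM (a, 0, c) ∨ v = Φ.mM (a, 0, c) * jj Φ}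
      one_mem' := ⟨0, 0, Or.inl Φ.mM_zero.symm⟩
      mul_mem' := by
        rintro x y ⟨a, c, hx⟩ ⟨a', c', hy⟩
        refine ⟨a + a', c + c', ?_⟩
        have hadd : Φ.mM (a, 0, c) * Φ.mM (a', 0, c') = Φ.mM (a + a', 0, c + c') := by
          rw [← Φ.mM_add]; simp
        have hj := K.jj_mM_comm a' c'
        rcases hx with rfl | rfl <;> rcases hy with rfl | rfl
        · exact Or.inl hadd
        · exact Or.inr (by rw [← mul_assoc, hadd])
        · exact Or.inr (by rw [mul_assoc, hj, ← mul_assoc, hadd])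
        · refine Or.inl ?_
          rw [mul_assoc, ← mul_assoc (jj Φ), hj, mul_assoc (Φ.mM (a', 0, c')), K.jj_mul_self, mul_one,
            hadd]
      inv_mem' := by
        rintro x ⟨a, c, hx⟩
        have hneg : (Φ.mM (a, 0, c))⁻¹ = Φ.mM (-a, 0, -c) := inv_eq_of_mul_eq_one_right (by
          rw [← Φ.mM_add, ← Φ.mM_zero]; congr 1; simp)
        refine ⟨-a, -c, ?_⟩
        rcases hx with rfl | rfl
        · exact Or.inl hneg
        · exact Or.inr (by rw [mul_inv_rev, K.jj_inv, hneg, K.jj_mM_comm]) }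
  have hZU : zuSub Φ ≤ D := by
    rintro _ ⟨a, c, rfl⟩
    exact ⟨Subgroup.mem_centralizer_singleton_iff.2 (K.jj_mM_comm a c).symm,
      Subgroup.mem_centralizer_singleton_iff.2 (K.M_comm _ (K.mem_M _) _ (K.mem_M _))⟩
  have hZUG : zuSub Φ ≤ Good := fun _ ⟨a, c, e⟩ => ⟨a, c, Or.inl e⟩
  -- the normaliser of `Z × U`
  have hnorm : ∀ y ∈ D, (∀ v ∈ zuSub Φ, y * v * y⁻¹ ∈ zuSub Φ) → y ∈ Good := by
    intro y hy hyn
    obtain ⟨hyj, hys⟩ := hmem hy
    obtain ⟨a, c, e⟩ := hyn _ ⟨1, 0, rfl⟩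
    have key : ∀ y : G, y * jj Φ = jj Φ * y → (∀ v ∈ zuSub Φ, y * v * y⁻¹ ∈ zuSub Φ) →
        ∀ a : F, y * Φ.mM (1, 0, 0) * y⁻¹ = Φ.mM (a, 0, 0) →
        ∃ (a t : F) (l m : Fˣ), y = Φ.mM (a, 0, t) * elHom₂ Φ w (dS l) * elHom Φ (dS m) ∧
          y * Φ.mM (-1, 0, 1) * y⁻¹ = Φ.mM (-((l : F) * l), 0, (m : F) * m) := by
      intro y hyj hyn a e
      have ha : a ≠ 0 := fun h0 => z_ne_one Φ (one_ne_zero (α := F)) (by
        rw [h0, show ((0, 0, 0) : V F) = 0 from rfl, Φ.mM_zero] at e; simpa using e)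
      obtain ⟨a, t, l, m, h1, h2⟩ :=
        K.diag_form hyj (mem_NC_of_conj Φ K.hb one_ne_zero ha e) (hyn _ ⟨0, 1, rfl⟩)
      exact ⟨a, t, l, m, h1, by rw [h2, mul_neg, mul_one, mul_one]⟩
    have hac : a = 0 ∨ c = 0 := by
      obtain ⟨n, -, hn, he⟩ := K.conj_M (H := ⊤) le_top (K.mem_M (1, 0, 0)) (K.mem_M (a, 0, c))
        (Subgroup.mem_top y) e
      obtain ⟨A, hA⟩ := K.image n hn
      have e' := Φ.mM_inj ((hA (1, 0, 0)).symm.trans he)
      simp [symHom_apply, sym] at e'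
      obtain ⟨e1, e2, e3⟩ := e'
      rcases e2 with h | h
      · left; rw [← e1, h, mul_zero]
      · right; rw [← e3, h, mul_zero]
    rcases hac with rfl | rfl
    · exfalso
      have hwn : ∀ v ∈ zuSub Φ, w * y * v * (w * y)⁻¹ ∈ zuSub Φ := fun v hv => by
        obtain ⟨p, q, hpq⟩ := hyn v hv
        exact ⟨q, p, by
          rw [show w * y * v * (w * y)⁻¹ = w * (y * v * y⁻¹) * w⁻¹ by group, hpq, K.w_mM, neg_zero]⟩
      obtain ⟨a, t, l, m, -, h2⟩ := key (w * y)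
        ((show Commute w (jj Φ) from K.hwj).mul_left (show Commute y (jj Φ) from hyj)) hwn c
        (by rw [show w * y * Φ.mM (1, 0, 0) * (w * y)⁻¹ = w * (y * Φ.mM (1, 0, 0) * y⁻¹) * w⁻¹ by group,
          e, K.w_mM, neg_zero])
      rw [show w * y * Φ.mM (-1, 0, 1) * (w * y)⁻¹ = w * (y * Φ.mM (-1, 0, 1) * y⁻¹) * w⁻¹ by group,
        mul_inv_eq_iff_eq_mul.2 hys, K.w_mM, neg_zero] at h2
      have := congrArg Prod.fst (Φ.mM_inj h2)
      exact neg_one_ne_sq K.mod4 (l : F) (by simp at this; linear_combination this)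
    · obtain ⟨a', t, l, m, h1, h2⟩ := key y hyj hyn a e
      rw [mul_inv_eq_iff_eq_mul.2 hys] at h2
      have h3 := Φ.mM_inj h2
      simp at h3
      have hGj : jj Φ ∈ Good := ⟨0, 0, Or.inr (by
        rw [show ((0, 0, 0) : V F) = 0 from rfl, Φ.mM_zero, one_mul])⟩
      rw [h1]
      refine Good.mul_mem (Good.mul_mem ⟨a', t, Or.inl rfl⟩ ?_) ?_
      · rcases K.elHom₂_dS_pm (m := l) (by linear_combination -h3.1) with e | e <;> rw [e]
        exacts [Good.one_mem, hGj]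
      · rcases K.elHom_dS_pm (m := m) (by linear_combination -h3.2) with e | e <;> rw [e]
        exacts [Good.one_mem, hGj]
  have hGcomm : ∀ y ∈ Good, ∀ v ∈ zuSub Φ, v * y = y * v := by
    rintro _ ⟨a, c, h⟩ _ ⟨p, q, rfl⟩
    have h1 := K.M_comm _ (K.mem_M (p, 0, q)) _ (K.mem_M (a, 0, c))
    rcases h with rfl | rfl
    · exact h1
    · rw [← mul_assoc, h1, mul_assoc, ← K.jj_mM_comm p q, ← mul_assoc]
  set S0 := (zuSub Φ).subgroupOf D with hS0
  have hS0p : IsPGroup 3 S0 := fun g => ⟨1, Subtype.ext (Subtype.ext (by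
    obtain ⟨a, c, e⟩ := g.2
    have e' : ((g : D) : G) = Φ.mM (a, 0, c) := e
    simpa using K.M_cube _ (e' ▸ K.mem_M _)))⟩
  obtain ⟨S, hS⟩ := hS0p.exists_le_sylow
  have hconjD : ∀ (x : D), x ∈ Subgroup.normalizer (S0 : Set D) → (x : G) ∈ Good := by
    intro x hx
    refine hnorm x x.2 fun v hv => ?_
    exact (Subgroup.mem_normalizer_iff.1 hx ⟨v, hZU hv⟩).1 hv
  have hSeq : (S : Subgroup D) = S0 := by
    refine le_antisymm ?_ hS
    by_contra hne
    haveI : Group.IsNilpotent (S : Subgroup D) := S.isPGroup'.isNilpotent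
    have htop : S0.subgroupOf S < ⊤ := lt_top_iff_ne_top.mpr fun e =>
      hne fun v hv => (show (⟨v, hv⟩ : (S : Subgroup D)) ∈ S0.subgroupOf S from e ▸ Subgroup.mem_top _)
    obtain ⟨⟨y, hyS⟩, hyN, hy0⟩ := SetLike.exists_of_lt (Group.normalizerCondition_of_isNilpotent _ htop)
    apply hy0
    have hyG : (y : G) ∈ Good := by
      refine hnorm y y.2 fun v hv => ?_
      exact (Subgroup.mem_normalizer_iff.1 hyN ⟨⟨v, hZU hv⟩, hS hv⟩).1 hv
    obtain ⟨k, hk⟩ := S.isPGroup' ⟨y, hyS⟩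
    have hk' : (y : G) ^ 3 ^ k = 1 := congrArg (fun z : (S : Subgroup D) => ((z : D) : G)) hk
    obtain ⟨a, c, h | h⟩ := hyG
    · exact ⟨a, c, h⟩
    · exfalso
      rw [h, (show Commute (Φ.mM (a, 0, c)) (jj Φ) from (K.jj_mM_comm a c).symm).mul_pow] at hk'
      have hodd : jj Φ ^ 3 ^ k = jj Φ := by
        obtain ⟨r, hr⟩ : Odd (3 ^ k) := Odd.pow (by decide)
        rw [hr, pow_succ, pow_mul, pow_two, K.jj_mul_self, one_pow, one_mul]
      rw [hodd, mul_eq_one_iff_eq_inv, K.jj_inv] at hk'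
      have hm : jj Φ ∈ M := hk' ▸ M.pow_mem (K.mem_M _) _
      have h6 := K.M_cube _ hm
      rw [pow_succ, pow_two, K.jj_mul_self, one_mul] at h6
      have := congrArg (fun B : Matrix.SpecialLinearGroup (Fin 2) F => B.1 0 0)
        (elHom_injective Φ (show elHom Φ (dS (-1)) = elHom Φ 1 by rw [map_one]; exact h6))
      simp at this
      exact K.two (by linear_combination -this)
  have hP : Subgroup.normalizer ((S : Subgroup D) : Set D) ≤ Subgroup.centralizer (S : Set D) := by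
    intro x hx v hv
    rw [hSeq] at hx
    have hv' : v ∈ (S : Subgroup D) := hv
    rw [hSeq] at hv'
    exact Subtype.ext (hGcomm _ (hconjD x hx) _ hv')
  have hcompl := MonoidHom.ker_transferSylow_isComplement' S hP
  set R := (MonoidHom.transferSylow S hP).ker with hR
  haveI hRn : R.Normal := MonoidHom.normal_ker _
  have hR3 : ¬ 3 ∣ Nat.card R := MonoidHom.not_dvd_card_ker_transferSylow S hP
  clear_value R
  clear hR
  set R' := R.map D.subtype with hR'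
  have hR'card : Nat.card R' = Nat.card R :=
    (Nat.card_congr (R.equivMapOfInjective _ D.subtype_injective).toEquiv).symm
  have hzZU : zSub Φ ≤ zuSub Φ := fun _ ⟨a, e⟩ => ⟨a, 0, e⟩
  have hnorm' : zSub Φ ≤ Subgroup.normalizer (R' : Set G) := by
    intro z hz
    have hzD : z ∈ D := hZU (hzZU hz)
    refine Subgroup.mem_normalizer_iff.2 fun v => ⟨?_, fun hv => ?_⟩
    · rintro ⟨r, hr, rfl⟩
      exact ⟨⟨z, hzD⟩ * r * ⟨z, hzD⟩⁻¹, hRn.conj_mem r hr _, rfl⟩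
    · obtain ⟨r, hr, e⟩ := hv
      refine ⟨⟨z, hzD⟩⁻¹ * r * ⟨z, hzD⟩, ?_, ?_⟩
      · simpa using hRn.conj_mem r hr (⟨z, hzD⟩⁻¹ : D)
      · show z⁻¹ * r * z = v
        rw [show (r : G) = z * v * z⁻¹ from e]; group
  haveI : IsMulCommutative (zSub Φ) := ⟨⟨fun u v => Subtype.ext (by
    obtain ⟨a, ha⟩ := u.2
    obtain ⟨b, hb⟩ := v.2
    exact K.M_comm _ (ha ▸ K.mem_M _) _ (hb ▸ K.mem_M _))⟩⟩
  have hcop : (Nat.card (zSub Φ)).Coprime (Nat.card R') := by
    obtain ⟨n, -, e⟩ := K.pow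
    rw [card_lineSub Φ _ inA1_inj, e, hR'card]
    exact ((Nat.prime_three.coprime_iff_not_dvd).2 hR3).pow_left n
  have hgen := CfsgLib.CoprimeAct.generated_by_centralizers (A := zSub Φ) (K := R')
    K.zSub_not_cyclic hnorm' hcop
  have hRG : R' ≤ Good := by
    rw [← hgen]
    refine iSup₂_le fun z hz => ?_
    rintro v ⟨hv1, hv2⟩
    obtain ⟨⟨z', rfl⟩, hz1⟩ := hz
    have hz' : z' ≠ 0 := by
      rintro rfl
      exact hz1 (by rw [show inA1 F 0 = 0 from map_zero _, Φ.mM_zero])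
    obtain ⟨hvj, hvs⟩ := hmem (Subgroup.map_subtype_le _ hv1)
    have hvC : v ∈ CA α := mem_C_of_comm_z Φ K.hb hz' (Subgroup.mem_centralizer_singleton_iff.1 hv2)
    refine hnorm v (Subgroup.map_subtype_le _ hv1) ?_
    obtain ⟨a, A, rfl⟩ := K.C_inter_D hvC hvj
    have hA : A * uS 1 = uS 1 * A := by
      have e := hvs
      simp only [Frame.mM, Φ.mul] at e
      exact (Φ.inj _ _ _ _ e).2
    obtain ⟨t, m, rfl, hm⟩ := K.uS_cent one_ne_zero hA
    have hm1 : (m : F) * m = 1 := by linear_combination -hm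
    have hg : Φ.el (0, 0, a) (uS t * dS m) ∈ Good := by
      rw [z_mul_el, map_mul, show elHom Φ (uS t) = Φ.mM (0, 0, t) from rfl, ← mul_assoc, ← Φ.mM_add]
      rcases K.elHom_dS_pm hm1 with e | e <;> rw [e]
      · exact ⟨a, t, Or.inl (by simp)⟩
      · exact ⟨a, t, Or.inr (by simp)⟩
    intro u hu
    rw [← hGcomm _ hg u hu, mul_inv_cancel_right]
    exact hu
  have hgD : g ∈ D := ⟨Subgroup.mem_centralizer_singleton_iff.2 hgj,
    Subgroup.mem_centralizer_singleton_iff.2 hgs⟩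
  have hgm : (⟨g, hgD⟩ : D) ∈ R ⊔ (S : Subgroup D) := hcompl.sup_eq_top ▸ Subgroup.mem_top _
  have hle : R ⊔ (S : Subgroup D) ≤ Good.subgroupOf D :=
    sup_le (fun r hr => hRG ⟨r, hr, rfl⟩) (hSeq ▸ fun r hr => hZUG hr)
  exact hle hgm

end Setup

end CfsgLib.PSpFourThreePower
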