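import Cfsg.Agent.PSpFourThreePower.CentK

/-!
The two complements commute, and they generate a copy of the linear group with the exchange.
-/

set_option autoImplicit false
set_option linter.unusedSectionVars false
set_option linter.style.haveILetI false
set_option maxHeartbeats 400000

open scoped Classical
open CfsgLib.PSpFourNormM CfsgLib.PSpFourTypeThree

namespace CfsgLib.PSpFourThreePower

variable {F : Type*} [Field F]

theorem dS_iS [CharP F 3] (l : Fˣ) : dS l * iS F = iS F * dS l⁻¹ := by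
  have h := mul_inv_eq_iff_eq_mul.1 (iS_dS l⁻¹)
  rw [inv_inv] at h
  exact h.symm

variable [Fintype F] {G : Type*} [Group G] [Finite G] {α : G}
  {Φ : Frame F (Subgroup.centralizer ({α} : Set G))} {P : Sylow 3 G} {M : Subgroup G} {w : G}

namespace Setup

variable (K : Setup Φ P M w)
include K

theorem hH_comm_elHom₂ (l : Fˣ) (B : Matrix.SpecialLinearGroup (Fin 2) F) :
    elHom₂ Φ w B * Φ.hH l = Φ.hH l * elHom₂ Φ w B := by
  have h := K.h'_comm_el l B
  have hl : w * h' Φ w l * w⁻¹ = Φ.hH l := K.w_elHom₂ (dS l)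
  rw [← hl, elHom₂_apply]
  calc w * elHom Φ B * w⁻¹ * (w * h' Φ w l * w⁻¹) = w * (elHom Φ B * h' Φ w l) * w⁻¹ := by group
    _ = w * (h' Φ w l * elHom Φ B) * w⁻¹ := by rw [h]
    _ = w * h' Φ w l * w⁻¹ * (w * elHom Φ B * w⁻¹) := by group

theorem dS_cent {A : Matrix.SpecialLinearGroup (Fin 2) F} {l : Fˣ} (hl : (l : F) * l ≠ 1)
    (h : A * dS l = dS l * A) : ∃ m, A = dS m := by
  have g := fun i j => congrFun (congrFun (congrArg Subtype.val h) i) j
  have g01 := g 0 1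
  have g10 := g 1 0
  simp [Matrix.SpecialLinearGroup.coe_mul, Matrix.mul_apply, Fin.sum_univ_two] at g01 g10
  have hl0 : (l : F) ≠ 0 := l.ne_zero
  field_simp at g01 g10
  have b0 : A.1 0 1 = 0 :=
    (mul_eq_zero.1 (show A.1 0 1 * ((l : F) * l - 1) = 0 by linear_combination -g01)).resolve_right
      (sub_ne_zero.2 hl)
  have c0 : A.1 1 0 = 0 :=
    (mul_eq_zero.1 (show A.1 1 0 * ((l : F) * l - 1) = 0 by linear_combination g10)).resolve_right
      (sub_ne_zero.2 hl)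
  obtain ⟨m, t, rfl⟩ := sl_upper c0
  simp [Matrix.SpecialLinearGroup.coe_mul, Matrix.mul_apply, Fin.sum_univ_two] at b0
  exact ⟨m, by rw [b0, uS_zero, one_mul]⟩

/-- The centraliser of the torus. -/
theorem cent_hH {g : G} (hg : ∀ l, g * Φ.hH l = Φ.hH l * g) :
    ∃ B l, g = elHom₂ Φ w B * Φ.hH l := by
  set K0 : Subgroup G := (Subgroup.closure (Set.range (dS (F := F)))).map (elHom Φ) with hK0
  let hom : Fˣ →* Matrix.SpecialLinearGroup (Fin 2) F :=
    { toFun := dS, map_one' := dS_one, map_mul' := dS_mul }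
  have hcl : Subgroup.closure (Set.range (dS (F := F))) = hom.range :=
    (Subgroup.closure_eq hom.range)
  have hmem : ∀ x, x ∈ K0 ↔ ∃ l, x = Φ.hH l := fun x => by
    rw [hK0, hcl]
    constructor
    · rintro ⟨_, ⟨l, rfl⟩, rfl⟩; exact ⟨l, rfl⟩
    · rintro ⟨l, rfl⟩; exact ⟨_, ⟨l, rfl⟩, rfl⟩
  obtain ⟨l₀, hl₀⟩ := K.exists_sq_ne_one
  have h3 : ¬ 3 ∣ Nat.card K0 := by
    rw [hK0, hcl, Nat.card_congr (hom.range.equivMapOfInjective _ (elHom_injective Φ)).toEquiv.symm]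
    intro h
    have hd := Subgroup.card_range_dvd hom
    rw [Nat.card_eq_fintype_card (α := Fˣ), Fintype.card_units] at hd
    have := h.trans hd
    obtain ⟨n, hn, e⟩ := K.pow
    have := K.three_dvd
    have := K.big
    omega
  obtain ⟨B, A, e, hA, -⟩ := K.centK K0 ((hmem _).2 ⟨-1, rfl⟩)
    (fun A hA => by
      obtain ⟨m, rfl⟩ := K.dS_cent (A := A) hl₀ (elHom_injective Φ (by
        rw [map_mul, map_mul]; exact hA _ ((hmem _).2 ⟨l₀, rfl⟩)))
      exact (hmem _).2 ⟨m, rfl⟩)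
    h3 (fun x hx B => by
      obtain ⟨l, rfl⟩ := (hmem x).1 hx
      exact K.hH_comm_elHom₂ l B)
    (g := g) (fun x hx => by
      obtain ⟨l, rfl⟩ := (hmem x).1 hx
      exact hg l)
  obtain ⟨l, hl⟩ := (hmem _).1 hA
  exact ⟨B, l, by rw [e, hl]⟩

/-- The centraliser of the second torus. -/
theorem cent_h' {g : G} (hg : ∀ l, g * h' Φ w l = h' Φ w l * g) :
    ∃ A l, g = elHom Φ A * h' Φ w l := by
  have hwi := K.w_inv
  obtain ⟨B, l, e⟩ := K.cent_hH (g := w * g * w⁻¹) fun l => by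
    have h := hg l
    have hl : w * h' Φ w l * w⁻¹ = Φ.hH l := K.w_elHom₂ (dS l)
    rw [← hl]
    calc w * g * w⁻¹ * (w * h' Φ w l * w⁻¹) = w * (g * h' Φ w l) * w⁻¹ := by group
      _ = w * (h' Φ w l * g) * w⁻¹ := by rw [h]
      _ = _ := by group
  refine ⟨B, l, ?_⟩
  have hg' : g = w⁻¹ * (w * g * w⁻¹) * w := by group
  rw [hg', e, ← K.w_elHom₂ B]
  show _ = w * elHom₂ Φ w B * w⁻¹ * (w * Φ.hH l * w⁻¹)
  rw [hwi]
  calc w * (elHom₂ Φ w B * Φ.hH l) * w = w * elHom₂ Φ w B * 1 * Φ.hH l * w := by group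
    _ = w * elHom₂ Φ w B * (w * w) * Φ.hH l * w := by rw [K.hw2]
    _ = _ := by group

theorem el_iS₂_comm (A : Matrix.SpecialLinearGroup (Fin 2) F) :
    elHom₂ Φ w (iS F) * elHom Φ A = elHom Φ A * elHom₂ Φ w (iS F) := by
  haveI := K.char
  set g := elHom₂ Φ w (iS F) with hg
  have hgh : ∀ l, g * h' Φ w l * g⁻¹ = h' Φ w l⁻¹ := fun l => by
    rw [hg, ← K.elHom₂_dS, ← map_inv, ← map_mul, ← map_mul, iS_dS, K.elHom₂_dS]
  -- conjugation by `g` keeps the unipotent elements of the first complement inside it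
  have hgu : ∀ t, g * elHom Φ (uS t) = elHom Φ (uS t) * g := fun t => by
    have hz : elHom Φ (iS F) * Φ.mM (t, 0, 0) = Φ.mM (t, 0, 0) * elHom Φ (iS F) :=
      Φ.central_mM t _ (Φ.el_mem _ _)
    have hu : elHom Φ (uS t) = w * Φ.mM (t, 0, 0) * w⁻¹ := by
      rw [← K.elHom₂_uS, K.w_elHom₂]
    rw [hu, hg, elHom₂_apply]
    calc w * elHom Φ (iS F) * w⁻¹ * (w * Φ.mM (t, 0, 0) * w⁻¹)
        = w * (elHom Φ (iS F) * Φ.mM (t, 0, 0)) * w⁻¹ := by group
      _ = w * (Φ.mM (t, 0, 0) * elHom Φ (iS F)) * w⁻¹ := by rw [hz]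
      _ = _ := by group
  have hgd : ∀ l, g * elHom Φ (dS l) = elHom Φ (dS l) * g := fun l => K.hH_comm_elHom₂ l _
  refine K.toCtx.comm_elHom ?_ (K.elHom₂_comm_jj _) hgu hgd A
  -- `g` normalises the centraliser of the second torus
  have hc : ∀ l, (g * elHom Φ (iS F) * g⁻¹) * h' Φ w l = h' Φ w l * (g * elHom Φ (iS F) * g⁻¹) := by
    intro l
    have h := K.h'_comm_el l⁻¹ (iS F)
    rw [show h' Φ w l = g * h' Φ w l⁻¹ * g⁻¹ by rw [hgh, inv_inv]]
    calc g * elHom Φ (iS F) * g⁻¹ * (g * h' Φ w l⁻¹ * g⁻¹)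
        = g * (elHom Φ (iS F) * h' Φ w l⁻¹) * g⁻¹ := by group
      _ = g * (h' Φ w l⁻¹ * elHom Φ (iS F)) * g⁻¹ := by rw [h]
      _ = _ := by group
  obtain ⟨B, l, e⟩ := K.cent_h' hc
  -- the cube of `elHom (iS * uS 1)` is trivial
  have h3 : (g * elHom Φ (iS F * uS 1) * g⁻¹) ^ 3 = 1 := by
    rw [conj_pow, ← map_pow, iS_uS_cube, map_one, mul_one, mul_inv_cancel]
  have he : g * elHom Φ (iS F * uS 1) * g⁻¹ = elHom Φ (B * uS 1) * h' Φ w l := by
    calc g * elHom Φ (iS F * uS 1) * g⁻¹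
        = g * elHom Φ (iS F) * g⁻¹ * (g * elHom Φ (uS 1) * g⁻¹) := by rw [map_mul]; group
      _ = elHom Φ B * h' Φ w l * elHom Φ (uS 1) := by rw [e, hgu 1, mul_inv_cancel_right]
      _ = _ := by rw [mul_assoc, K.h'_comm_el, map_mul, mul_assoc]
  rw [he, (show Commute (elHom Φ (B * uS 1)) (h' Φ w l) from (K.h'_comm_el l _).symm).mul_pow,
    mul_eq_one_iff_eq_inv] at h3
  -- so the torus part is a power of the central involution
  have hh : h' Φ w l ^ 3 ∈ CA α := by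
    rw [show h' Φ w l ^ 3 = ((elHom Φ (B * uS 1)) ^ 3)⁻¹ by rw [h3, inv_inv], ← map_pow, ← map_inv]
    exact Φ.el_mem _ _
  rw [← K.elHom₂_dS, ← map_pow] at hh
  obtain ⟨m, hm⟩ : ∃ m : Fˣ, dS l ^ 3 = dS m ∧ (m : F) = (l : F) * l * l :=
    ⟨l * l * l, by rw [pow_succ, pow_two, dS_mul, dS_mul], by simp⟩
  rw [hm.1, K.elHom₂_dS] at hh
  have hfix : Φ.mM (1, 0, 0) = Φ.mM ((m : F) * m * 1, (m : F) * 0, 0) := by
    rw [← K.h'_acts, Φ.central_mM 1 _ hh, mul_inv_cancel_right]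
  have hmm : (m : F) * m = 1 := by
    have := congrArg Prod.fst (Φ.mM_inj hfix)
    simpa using this.symm
  have hl1 : (l : F) = 1 ∨ (l : F) = -1 := by
    refine mul_self_eq_one_iff.1 (sub_eq_zero.1 ?_)
    have : ((l : F) * l - 1) ^ 3 = 0 := by
      rw [hm.2] at hmm
      linear_combination hmm + ((l : F) * l) * (1 - (l : F) * l) * K.three
    exact pow_eq_zero_iff (n := 3) (by norm_num) |>.1 this
  rw [e]
  refine mul_mem (Φ.el_mem _ _) ?_
  rcases hl1 with h | h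
  · obtain rfl : l = 1 := Units.ext h
    rw [← K.elHom₂_dS, dS_one, map_one]; exact one_mem _
  · obtain rfl : l = -1 := Units.ext (by rw [h]; simp)
    rw [← K.elHom₂_dS, K.elHom₂_jj]; exact Φ.el_mem _ _

/-- The two complements commute. -/
theorem comm₂ (A B : Matrix.SpecialLinearGroup (Fin 2) F) :
    Commute (elHom Φ A) (elHom₂ Φ w B) := by
  haveI := K.char
  refine sl_cases (fun B => Commute (elHom Φ A) (elHom₂ Φ w B)) ?_ ?_ (fun t => ?_) (fun l => ?_) ?_ B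
  · intro B B' h h'; rw [map_mul]; exact h.mul_right h'
  · intro B h; rw [map_inv]; exact h.inv_right
  · rw [K.elHom₂_uS]; exact Φ.central_mM t _ (Φ.el_mem _ _)
  · rw [K.elHom₂_dS]; exact (K.h'_comm_el l A).symm
  · exact (K.el_iS₂_comm A).symm

end Setup

end CfsgLib.PSpFourThreePower
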