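import Cfsg.Agent.PSpFourNormM.Frame
import Cfsg.Agent.PSpFourTypeThree.Quat

/-!
Standard elements of `Sp₄(q)`: the sign, the plane swap and the two kinds of involutory elements.
-/

set_option autoImplicit false

open Matrix CfsgLib.PSpFourNormM

namespace CfsgLib.PSpFourThreePower

variable (F : Type*) [Field F]

/-- The element `-1`. -/
def negOne : Matrix.symplecticGroup (Fin 2) F :=
  ⟨-1, SymplecticGroup.neg_mem (one_mem _)⟩

@[simp] theorem negOne_val : (negOne F).1 = -1 := rfl

/-- The Siegel element of the swap `wM`. -/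
def hatW : Matrix.symplecticGroup (Fin 2) F :=
  ⟨Matrix.fromBlocks !![0, 1; -1, 0] 0 0 !![0, 1; -1, 0], by
    rw [SymplecticGroup.mem_iff]
    ext i j
    rcases i with i | i <;> rcases j with j | j <;> fin_cases i <;> fin_cases j <;>
      simp [Matrix.J, Matrix.fromBlocks, Matrix.mul_apply, Fintype.sum_sum_type, Fin.sum_univ_two]⟩

/-- The element with eigenvalues `±1`. -/
def hatJ : Matrix.symplecticGroup (Fin 2) F := Wm 0 (dS (-1))

/-- The element of square `-1`. -/
def hatT : Matrix.symplecticGroup (Fin 2) F :=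
  Wm 0 (PSpFourTypeThree.iS F) * (hatW F * Wm 0 (PSpFourTypeThree.iS F) * (hatW F)⁻¹)

end CfsgLib.PSpFourThreePower
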