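import Cfsg.Agent.PSpFourCentral.Completion
import Cfsg.Agent.PSpFourThreePower.Model

/-!
`Sp₄(q)` maps onto the subgroup generated by the centraliser and its exchange, with kernel the centre.
-/

set_option autoImplicit false
set_option linter.unusedSectionVars false
set_option linter.style.haveILetI false

open Matrix Subgroup

namespace CfsgLib.PSpFourThreePower

open CfsgLib.PSpFourNormM CfsgLib.PSpFourCentral

variable {F : Type*} [Field F]

theorem hatW_eq : hatW F = sSwap F := rfl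

local notation "Sp" => Matrix.symplecticGroup (Fin 2) F

theorem dS_neg_one' : (dS (-1 : Fˣ) : Matrix.SpecialLinearGroup (Fin 2) F) = -1 := by
  refine Subtype.ext ?_
  ext i j
  fin_cases i <;> fin_cases j <;> simp [dS]

/-- The homomorphism from `Sp₄(q)`; the exchange goes to the conjugation by `w`. -/
theorem exists_hom_swap [Fintype F] (hq : 3 < Fintype.card F) (h2 : (2 : F) ≠ 0) {G : Type*} [Group G]
    {C : Subgroup G} (Φ : Frame F C) (w : G)
    (hwM : ∀ u, w * Φ.mM u * w⁻¹ = Φ.mM (symHom F wM u))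
    (hwj : w * Φ.hH (-1) * w⁻¹ = Φ.hH (-1))
    (hLL : ∀ A B, Commute (Φ.el 0 A) (w * Φ.el 0 B * w⁻¹)) :
    ∃ Ψ : Sp →* G, (∀ v A, Ψ (Wm v A) = Φ.el v A) ∧
      (∀ v A, Ψ (hatW F * Wm v A * (hatW F)⁻¹) = w * Φ.el v A * w⁻¹) ∧
      Ψ.range = C ⊔ C.map (MulAut.conj w).toMonoidHom ∧
      Ψ.ker = Subgroup.center Sp ∧ Nonempty (Ψ.range ≃* Cfsg.PSp 2 F) := by
  obtain ⟨Ψ, hC, hCs, hr⟩ := PSpFourCentral.exists_hom Φ h2 w hwM (fun A B => (hLL B A).symm)
  have hneg : ∀ z : Sp, z.1 = -1 → Ψ z = 1 := by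
    intro z hz
    have e : z = pl0 F (-1) * pl1 F (-1) := by
      refine Subtype.ext ?_
      show z.1 = (pl0 F (-1) : Sp).1 * (Wm 0 (-1) : Sp).1
      rw [hz, pl0_val]
      ext i j
      rcases i with i | i <;> rcases j with j | j <;> fin_cases i <;> fin_cases j <;>
        simp [Wm, PSpFourThree.W, PSpFourThree.ofRows, PSpFourThree.ix, Matrix.mul_apply,
          Fintype.sum_sum_type, Fin.sum_univ_two]
    have e0 : Ψ (pl0 F (-1)) = w * Φ.hH (-1) * w⁻¹ := by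
      rw [Frame.hH, dS_neg_one']; exact hCs 0 (-1)
    have e1 : Ψ (pl1 F (-1)) = Φ.hH (-1) := by
      rw [Frame.hH, dS_neg_one']; exact hC 0 (-1)
    rw [e, map_mul, e0, e1, hwj, ← Φ.hH_mul, neg_mul_neg, one_mul, Φ.hH_one]
  have hker : Ψ.ker = Subgroup.center Sp := by
    have hle : Subgroup.center Sp ≤ Ψ.ker := by
      intro z hz
      rcases Symp.mem_center_iff.mp hz with k | k
      · have hz1 : z = 1 := Subtype.ext k
        rw [hz1]; exact one_mem _
      · exact hneg z k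
    refine le_antisymm ?_ hle
    haveI : IsSimpleGroup (Cfsg.PSp 2 F) := Cfsg.Agent.S0270.result 2 le_rfl fun _ => hq.le
    rcases (Subgroup.Normal.map (inferInstance : Ψ.ker.Normal) (QuotientGroup.mk' (Subgroup.center Sp))
      (QuotientGroup.mk'_surjective _)).eq_bot_or_eq_top with h | h
    · rwa [Subgroup.map_eq_bot_iff, QuotientGroup.ker_mk'] at h
    · exfalso
      obtain ⟨z, hz, e⟩ : QuotientGroup.mk' (Subgroup.center Sp) (siegel (1, 0, 0)) ∈
          Ψ.ker.map (QuotientGroup.mk' (Subgroup.center Sp)) := h ▸ mem_top _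
      have h1 : Ψ (siegel (1, 0, 0)) = 1 := by
        have hd : z⁻¹ * siegel (1, 0, 0) ∈ Ψ.ker := hle (QuotientGroup.eq.mp e)
        have := mul_mem hz hd
        rwa [mul_inv_cancel_left, MonoidHom.mem_ker] at this
      rw [show Ψ (siegel (1, 0, 0)) = Φ.mM (1, 0, 0) from hC _ _, ← Φ.mM_zero] at h1
      exact one_ne_zero (congrArg Prod.fst (Φ.mM_inj h1))
  exact ⟨Ψ, hC, hCs, hr, hker,
    ⟨(QuotientGroup.quotientKerEquivRange Ψ).symm.trans (QuotientGroup.quotientMulEquivOfEq hker)⟩⟩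

/-- The homomorphism from `Sp₄(q)`. -/
theorem exists_hom [Fintype F] (hq : 3 < Fintype.card F) (h2 : (2 : F) ≠ 0) {G : Type*} [Group G]
    {C : Subgroup G} (Φ : Frame F C) (w : G)
    (hwM : ∀ u, w * Φ.mM u * w⁻¹ = Φ.mM (symHom F wM u))
    (hwj : w * Φ.hH (-1) * w⁻¹ = Φ.hH (-1))
    (hLL : ∀ A B, Commute (Φ.el 0 A) (w * Φ.el 0 B * w⁻¹)) :
    ∃ Ψ : Sp →* G, (∀ v A, Ψ (Wm v A) = Φ.el v A) ∧ Ψ.ker = Subgroup.center Sp ∧
      Nonempty (Ψ.range ≃* Cfsg.PSp 2 F) := by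
  obtain ⟨Ψ, h1, -, -, h4, h5⟩ := exists_hom_swap hq h2 Φ w hwM hwj hLL
  exact ⟨Ψ, h1, h4, h5⟩

end CfsgLib.PSpFourThreePower
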