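import Cfsg.Agent.PSpFourNormM.Main
import Cfsg.Agent.PSpFourTypeThree.Quat
import Cfsg.Agent.PSpFourTypeThree.Main

/-!
The case where `N(M)` induces all of `GL₂` on the elementary subgroup: the exchange `w` of the two
root subgroups and the second torus.
-/

set_option autoImplicit false
set_option linter.unusedSectionVars false
set_option linter.style.haveILetI false
set_option maxHeartbeats 400000

open scoped Classical
open CfsgLib.PSpFourNormM CfsgLib.PSpFourTypeThree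

namespace CfsgLib.PSpFourThreePower

section Matrices

variable {F : Type*} [Field F] [CharP F 3]

/-- `GL₂`-matrices with determinant one, through the generators. -/
theorem sl_cases (P : Matrix.SpecialLinearGroup (Fin 2) F → Prop)
    (hmul : ∀ A B, P A → P B → P (A * B)) (hinv : ∀ A, P A → P A⁻¹) (hu : ∀ t, P (uS t))
    (hd : ∀ l, P (dS l)) (hi : P (iS F)) (A : Matrix.SpecialLinearGroup (Fin 2) F) : P A := by
  have key : ∀ B : Matrix.SpecialLinearGroup (Fin 2) F, B.1 1 0 = 0 → P B := fun B hB => by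
    obtain ⟨l, t, rfl⟩ := sl_upper hB
    exact hmul _ _ (hu t) (hd l)
  by_cases h : A.1 1 0 = 0
  · exact key A h
  · set t := -(A.1 0 0 / A.1 1 0) with ht
    have e : A = (uS t)⁻¹ * ((iS F)⁻¹ * (iS F * uS t * A)) := by group
    rw [e]
    refine hmul _ _ (hinv _ (hu t)) (hmul _ _ (hinv _ hi) (key _ ?_))
    simp [Matrix.SpecialLinearGroup.coe_mul, Matrix.mul_apply, Fin.sum_univ_two, ht]
    field_simp
    ring

theorem iS_dS (l : Fˣ) : iS F * dS l * (iS F)⁻¹ = dS l⁻¹ := by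
  rw [mul_inv_eq_iff_eq_mul]
  refine Subtype.ext ?_
  simp [Matrix.SpecialLinearGroup.coe_mul]

theorem iS_uS_cube : (iS F * uS 1) ^ 3 = 1 := by
  refine Subtype.ext ?_
  simp [pow_succ, Matrix.SpecialLinearGroup.coe_mul, Matrix.one_fin_two]

/-- The only element with the relations of `iS` is `iS`. -/
theorem eq_iS {S : Matrix.SpecialLinearGroup (Fin 2) F} {l : Fˣ} (hl : (l : F) * l ≠ 1)
    (h1 : S * dS l = dS l⁻¹ * S) (h2 : (S * uS 1) ^ 3 = 1) : S = iS F := by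
  have g := fun i j => congrFun (congrFun (congrArg Subtype.val h1) i) j
  have g00 := g 0 0
  have g11 := g 1 1
  simp [Matrix.SpecialLinearGroup.coe_mul, Matrix.mul_apply, Fin.sum_univ_two] at g00 g11
  have hl0 : (l : F) ≠ 0 := l.ne_zero
  field_simp at g00 g11
  have a0 : S.1 0 0 = 0 :=
    (mul_eq_zero.1 (show S.1 0 0 * ((l : F) * l - 1) = 0 by linear_combination g00)).resolve_right
      (sub_ne_zero.2 hl)
  have d0 : S.1 1 1 = 0 :=
    (mul_eq_zero.1 (show S.1 1 1 * ((l : F) * l - 1) = 0 by linear_combination -g11)).resolve_right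
      (sub_ne_zero.2 hl)
  have hd := S.2
  rw [Matrix.det_fin_two, a0, zero_mul, zero_sub] at hd
  have k := congrFun (congrFun (congrArg Subtype.val h2) 0) 0
  simp [pow_succ, Matrix.SpecialLinearGroup.coe_mul, Matrix.mul_apply, Fin.sum_univ_two, a0, d0] at k
  have hb : S.1 1 0 = -1 := by
    linear_combination (-1 : F) * k + (-(S.1 1 0)) * hd
  have hc : S.1 0 1 = 1 := by
    rw [hb] at hd; linear_combination hd
  refine Subtype.ext ?_
  ext i j
  fin_cases i <;> fin_cases j <;> simp [a0, d0, hb, hc]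

end Matrices

variable {F : Type*} [Field F] [Fintype F] {G : Type*} [Group G] [Finite G] {α : G}
  (Φ : Frame F (Subgroup.centralizer ({α} : Set G)))

/-- `g` acts on the coordinates of `M` by `σ`. -/
def Acts (g : G) (σ : Equiv.Perm (V F)) : Prop := ∀ v, g * Φ.mM v * g⁻¹ = Φ.mM (σ v)

theorem Acts.mul {g h : G} {σ τ : Equiv.Perm (V F)} (hg : Acts Φ g σ) (hh : Acts Φ h τ) :
    Acts Φ (g * h) (σ * τ) := fun v => by
  rw [Equiv.Perm.mul_apply, ← hg, ← hh]; group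

theorem Acts.inv {g : G} {σ : Equiv.Perm (V F)} (hg : Acts Φ g σ) : Acts Φ g⁻¹ σ⁻¹ := fun v => by
  have h := hg (σ⁻¹ v)
  rw [Equiv.Perm.inv_def, Equiv.apply_symm_apply] at h
  rw [← h, Equiv.Perm.inv_def]; group

theorem acts_mM (u : V F) : Acts Φ (Φ.mM u) 1 := fun v => by
  rw [← Φ.mM_add, add_comm, Φ.mM_add, mul_inv_cancel_right]; rfl

theorem acts_hH (l : Fˣ) : Acts Φ (Φ.hH l) (hT l) := fun v => by
  rw [Φ.hH_mM, mul_inv_cancel_right]

theorem Acts.eq {g : G} {σ τ : Equiv.Perm (V F)} (hg : Acts Φ g σ) (hg' : Acts Φ g τ) : σ = τ :=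
  Equiv.ext fun v => Φ.mM_inj ((hg v).symm.trans (hg' v))

/-- Case B: the normaliser of `M` induces exactly the image of `GL₂`. -/
structure Ctx (Φ : Frame F (Subgroup.centralizer ({α} : Set G))) (P : Sylow 3 G) (M : Subgroup G) :
    Prop extends Basic Φ P M where
  surj : ∀ A : GL (Fin 2) F, ∃ g ∈ Subgroup.normalizer (M : Set G), Acts Φ g (symHom F A)
  image : ∀ g ∈ Subgroup.normalizer (M : Set G), ∃ A : GL (Fin 2) F, Acts Φ g (symHom F A)

namespace Ctx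

variable {Φ} {P : Sylow 3 G} {M : Subgroup G} (K : Ctx Φ P M)
include K

theorem mem_M_of_fix {g : G} (h : Acts Φ g 1) : g ∈ M := by
  have hc : ∀ v, g * Φ.mM v = Φ.mM v * g := fun v => mul_inv_eq_iff_eq_mul.1 (h v)
  obtain ⟨u, hu⟩ := Φ.eq_mM_of_comm K.two
    (mem_C_of_comm_z Φ K.hb one_ne_zero (hc (1, 0, 0))) hc
  exact hu ▸ K.mem_M u

theorem jj_mul_self : jj Φ * jj Φ = 1 := by
  show Φ.hH (-1) * Φ.hH (-1) = 1
  rw [← Φ.hH_mul, neg_mul_neg, one_mul, Φ.hH_one]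

theorem jj_inv : (jj Φ)⁻¹ = jj Φ := inv_eq_of_mul_eq_one_right K.jj_mul_self

theorem jj_mM (v : V F) : jj Φ * Φ.mM v * (jj Φ)⁻¹ = Φ.mM (v.1, -v.2.1, v.2.2) := by
  obtain ⟨a, b, c⟩ := v
  rw [show jj Φ * Φ.mM (a, b, c) * (jj Φ)⁻¹ = _ from acts_hH Φ (-1) (a, b, c)]
  simp

theorem comm_jj_M {u : V F} (h : jj Φ * Φ.mM u = Φ.mM u * jj Φ) : u.2.1 = 0 := by
  have e := Φ.mM_inj ((K.jj_mM u).symm.trans (mul_inv_eq_iff_eq_mul.2 h))
  exact mul_left_cancel₀ K.two (by linear_combination -(congrArg (fun w : V F => w.2.1) e))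

theorem exists_sq_ne_one : ∃ l : Fˣ, (l : F) * l ≠ 1 := by
  by_contra! h
  have hsub : (Finset.univ : Finset F) ⊆ {0, 1, -1} := fun x _ => by
    by_cases hx : x = 0
    · simp [hx]
    · have := h (Units.mk0 x hx)
      rcases mul_self_eq_one_iff.1 this with e | e <;> simp at e <;> simp [e]
  have := (Finset.card_le_card hsub).trans Finset.card_le_three
  have := K.big
  rw [Finset.card_univ] at *
  omega

theorem exists_w : ∃ w ∈ Subgroup.normalizer (M : Set G),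
    w * w = 1 ∧ w * jj Φ = jj Φ * w ∧ Acts Φ w (symHom F wM) := by
  obtain ⟨w₀, hw₀, hact₀⟩ := K.surj wM
  have hjw : Acts Φ (jj Φ * w₀ * (jj Φ)⁻¹ * w₀⁻¹) 1 := fun v => by
    rw [((((acts_hH Φ (-1)).mul Φ hact₀).mul Φ (acts_hH Φ (-1)).inv).mul Φ hact₀.inv) v]
    obtain ⟨a, b, c⟩ := v
    have hw : (symHom F wM)⁻¹ ((a, b, c) : V F) = (c, -b, a) := by
      rw [Equiv.Perm.inv_def, Equiv.symm_apply_eq, wM_apply]; simp
    rw [hT_inv, show ((-1 : Fˣ))⁻¹ = -1 by simp]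
    simp [Equiv.Perm.mul_apply, hw]
  obtain ⟨m, hm⟩ := (K.hM _).1 (K.mem_M_of_fix hjw)
  obtain ⟨ma, mb, mc⟩ := m
  have hmm : Φ.mM (ma, mb, mc) * Φ.mM (ma, -mb, mc) = 1 := by
    rw [← K.jj_mM (ma, mb, mc), ← hm, K.jj_inv]
    have hj := K.jj_mul_self
    calc jj Φ * w₀ * jj Φ * w₀⁻¹ * (jj Φ * (jj Φ * w₀ * jj Φ * w₀⁻¹) * jj Φ)
        = jj Φ * w₀ * jj Φ * w₀⁻¹ * ((jj Φ * jj Φ) * w₀ * jj Φ * w₀⁻¹) * jj Φ := by group
      _ = jj Φ * w₀ * (jj Φ * jj Φ) * w₀⁻¹ * jj Φ := by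
        rw [hj, one_mul]; simp only [mul_assoc, inv_mul_cancel_left]; rw [← mul_assoc (jj Φ) (jj Φ), hj]
      _ = 1 := by rw [hj]; simp [mul_assoc, hj]
  rw [← Φ.mM_add, ← Φ.mM_zero] at hmm
  have e1 := Φ.mM_inj hmm
  simp only [Prod.mk_add_mk, Prod.ext_iff, Prod.fst_zero, Prod.snd_zero] at e1
  obtain ⟨f1, -, f3⟩ := e1
  have hma : ma = 0 := mul_left_cancel₀ K.two (by linear_combination f1)
  have hmc : mc = 0 := mul_left_cancel₀ K.two (by linear_combination f3)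
  subst hma hmc
  have h2 := K.two
  set w₁ := Φ.mM (0, mb / 2, 0) * w₀ with hw₁
  have hw₁M : Acts Φ w₁ (symHom F wM) := by
    have := (acts_mM Φ (0, mb / 2, 0)).mul Φ hact₀
    rwa [one_mul] at this
  have hw₁j : w₁ * jj Φ = jj Φ * w₁ := by
    have e : jj Φ * w₀ = Φ.mM (0, mb, 0) * w₀ * jj Φ := by rw [← hm]; group
    have e' : jj Φ * Φ.mM (0, mb / 2, 0) = Φ.mM (0, -(mb / 2), 0) * jj Φ :=
      mul_inv_eq_iff_eq_mul.1 (K.jj_mM _)
    calc w₁ * jj Φ = Φ.mM (0, mb / 2, 0) * w₀ * jj Φ := rfl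
      _ = Φ.mM (0, -(mb / 2), 0) * (Φ.mM (0, mb, 0) * w₀ * jj Φ) := by
        rw [← mul_assoc, ← mul_assoc, ← Φ.mM_add]; congr 3; simp; field_simp; ring
      _ = jj Φ * w₁ := by
        rw [← e, hw₁]
        calc Φ.mM (0, -(mb / 2), 0) * (jj Φ * w₀) = (Φ.mM (0, -(mb / 2), 0) * jj Φ) * w₀ := by group
          _ = jj Φ * (Φ.mM (0, mb / 2, 0) * w₀) := by rw [← e']; group
  -- the square
  have hsq : Acts Φ (w₁ * w₁) 1 := fun v => by
    rw [(hw₁M.mul Φ hw₁M) v]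
    obtain ⟨a, b, c⟩ := v
    simp [Equiv.Perm.mul_apply]
  obtain ⟨s, hs⟩ := (K.hM _).1 (K.mem_M_of_fix hsq)
  have hsj : jj Φ * Φ.mM s = Φ.mM s * jj Φ := by
    rw [← hs]
    exact ((show Commute (jj Φ) w₁ from hw₁j.symm).mul_right (hw₁j.symm : Commute (jj Φ) w₁))
  have hsw : symHom F wM s = s := Φ.mM_inj (by rw [← hw₁M s, ← hs]; group)
  obtain ⟨sa, sb, sc⟩ := s
  have hb0 : sb = 0 := K.comm_jj_M hsj
  subst hb0
  rw [wM_apply] at hsw
  have hca : sc = sa := congrArg Prod.fst hsw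
  subst hca
  refine ⟨w₁ * Φ.mM (-sc, 0, 0), ?_, ?_, ?_, ?_⟩
  · refine mul_mem (mul_mem (Subgroup.le_normalizer (K.mem_M _)) hw₀) (Subgroup.le_normalizer (K.mem_M _))
  · have h := hw₁M (-sc, 0, 0)
    rw [wM_apply, neg_zero] at h
    calc w₁ * Φ.mM (-sc, 0, 0) * (w₁ * Φ.mM (-sc, 0, 0))
        = (w₁ * Φ.mM (-sc, 0, 0) * w₁⁻¹) * (w₁ * w₁) * Φ.mM (-sc, 0, 0) := by group
      _ = 1 := by
        rw [h, hs, ← Φ.mM_add, ← Φ.mM_add, ← Φ.mM_zero]
        congr 1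
        simp
  · calc w₁ * Φ.mM (-sc, 0, 0) * jj Φ = w₁ * (jj Φ * Φ.mM (-sc, 0, 0)) := by
          rw [mul_assoc, Φ.central_mM (-sc) (jj Φ) (Φ.el_mem _ _)]
      _ = _ := by rw [← mul_assoc, hw₁j, mul_assoc]
  · have := hw₁M.mul Φ (acts_mM Φ (-sc, 0, 0))
    rwa [mul_one] at this

/-- Conjugate central elements differ by a square. -/
theorem z_conj {g : G} {a b : F} (ha : a ≠ 0) (h : g * Φ.mM (a, 0, 0) * g⁻¹ = Φ.mM (b, 0, 0)) :
    ∃ x : F, x ≠ 0 ∧ b = x * x * a := by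
  haveI : Fact (Nat.Prime 3) := ⟨Nat.prime_three⟩
  have hb0 : b ≠ 0 := by
    rintro rfl
    exact z_ne_one Φ ha (by simpa using h.trans Φ.mM_zero)
  have hg : g ∈ NC α := mem_NC_of_conj Φ K.hb ha hb0 h
  have hP1 : ((g • P : Sylow 3 G) : Subgroup G) ≤ CA α := by
    intro v hv
    rw [Sylow.smul_def, Sylow.pointwise_smul_def] at hv
    obtain ⟨u, hu, rfl⟩ := hv
    exact (Subgroup.mem_normalizer_iff.1 hg _).1 (K.P_le_C hu)
  obtain ⟨c, hc⟩ := MulAction.exists_smul_eq (CA α) ((g • P).subtype hP1) (P.subtype K.P_le_C)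
  have hm : ∀ v ∈ M, (c : G) * g * v * ((c : G) * g)⁻¹ ∈ (P : Subgroup G) := by
    intro v hv
    have hxv : g * v * g⁻¹ ∈ ((g • P : Sylow 3 G) : Subgroup G) := by
      rw [Sylow.smul_def, Sylow.pointwise_smul_def]
      exact Subgroup.smul_mem_pointwise_smul _ (MulAut.conj g) _ (K.M_le_P hv)
    have h' : c * ⟨g * v * g⁻¹, hP1 hxv⟩ * c⁻¹ ∈
        ((P.subtype K.P_le_C : Sylow 3 (CA α)) : Subgroup (CA α)) := by
      rw [← hc, Sylow.smul_def, Sylow.pointwise_smul_def]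
      exact Subgroup.smul_mem_pointwise_smul _ (MulAut.conj c) _ (by
        rw [Sylow.coe_subtype, Subgroup.mem_subgroupOf]; exact hxv)
    rw [Sylow.coe_subtype, Subgroup.mem_subgroupOf] at h'
    simpa [mul_assoc] using h'
  set m := (c : G) * g
  have hMm : M.map (MulAut.conj m).toMonoidHom = M := by
    refine K.unique_M _ ?_ ?_
      (Nat.card_congr (M.equivMapOfInjective _ (MulAut.conj m).injective).toEquiv).symm
    · rintro _ ⟨v, hv, rfl⟩
      exact hm v hv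
    · rintro _ ⟨u, hu, rfl⟩ _ ⟨v, hv, rfl⟩
      rw [← map_mul, K.M_comm u hu v hv, map_mul]
  have hmN : m ∈ Subgroup.normalizer (M : Set G) := by
    refine Subgroup.mem_normalizer_iff.2 fun v => ⟨fun hv => hMm ▸ ⟨v, hv, rfl⟩, fun hv => ?_⟩
    rw [← hMm] at hv
    obtain ⟨u, hu, e⟩ := hv
    exact (MulAut.conj m).injective e ▸ hu
  obtain ⟨A, hA⟩ := K.image m hmN
  have e : symHom F A (a, 0, 0) = (b, 0, 0) := Φ.mM_inj (by
    rw [← hA, show m * Φ.mM (a, 0, 0) * m⁻¹ = (c : G) * (g * Φ.mM (a, 0, 0) * g⁻¹) * (c : G)⁻¹ by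
      simp only [m]; group, h, Φ.central_mM b c c.2, mul_inv_cancel_right])
  have e1 := congrArg Prod.fst e
  simp [symHom_apply, sym] at e1
  refine ⟨_, fun e0 => hb0 ?_, e1.symm⟩
  rw [← e1, e0]; ring

theorem z_not_inv {g : G} {a : F} (ha : a ≠ 0) :
    g * Φ.mM (a, 0, 0) * g⁻¹ ≠ (Φ.mM (a, 0, 0))⁻¹ := by
  intro h
  obtain ⟨x, -, hx⟩ := K.z_conj (b := -a) ha (h.trans (inv_eq_of_mul_eq_one_right (by
    rw [← Φ.mM_add, ← Φ.mM_zero]; congr 1; simp)))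
  exact neg_one_ne_sq K.mod4 x (mul_right_cancel₀ ha (by linear_combination -hx))

theorem C_inter_D {g : G} (hg : g ∈ CA α) (hgj : g * jj Φ = jj Φ * g) :
    ∃ (a : F) (A : Matrix.SpecialLinearGroup (Fin 2) F), g = Φ.el (0, 0, a) A := by
  obtain ⟨⟨p, r, a⟩, A, rfl⟩ := (Φ.mem_iff g).1 hg
  rw [show jj Φ = Φ.el 0 (dS (-1)) from rfl, Φ.mul, Φ.mul] at hgj
  have v := (Φ.inj _ _ _ _ hgj).1
  simp [vmul] at v
  refine ⟨a, A, ?_⟩
  rw [show p = 0 from mul_left_cancel₀ K.two (by linear_combination v.1),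
    show r = 0 from mul_left_cancel₀ K.two (by linear_combination v.2)]

theorem el_z_pow (a : F) (A : Matrix.SpecialLinearGroup (Fin 2) F) (n : ℕ) :
    Φ.el (0, 0, a) A ^ n = Φ.el (0, 0, (n : F) * a) (A ^ n) := by
  induction n with
  | zero =>
    rw [pow_zero, pow_zero, Nat.cast_zero, zero_mul]
    exact Φ.el_one.symm
  | succ n ih =>
    rw [pow_succ, ih, Φ.mul, pow_succ]
    congr 1
    simp [vmul, add_mul]

theorem el_z_order {a : F} {A : Matrix.SpecialLinearGroup (Fin 2) F} {n : ℕ} (hn : (n : F) ≠ 0)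
    (h : Φ.el (0, 0, a) A ^ n = 1) : a = 0 := by
  rw [K.el_z_pow, ← Φ.el_one] at h
  have := congrArg (fun v : F × F × F => v.2.2) (Φ.inj _ _ _ _ h).1
  exact (mul_eq_zero.1 this).resolve_left hn

/-- An element centralising `j`, `U` and the torus which moves the Weyl element inside `C`
centralises the complement. -/
theorem comm_elHom {g : G} (hg : g * elHom Φ (iS F) * g⁻¹ ∈ CA α) (hgj : g * jj Φ = jj Φ * g)
    (hgu : ∀ t, g * elHom Φ (uS t) = elHom Φ (uS t) * g)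
    (hgd : ∀ l, g * elHom Φ (dS l) = elHom Φ (dS l) * g)
    (A : Matrix.SpecialLinearGroup (Fin 2) F) : g * elHom Φ A = elHom Φ A * g := by
  haveI := K.char
  have hi : g * elHom Φ (iS F) = elHom Φ (iS F) * g := by
    set y := g * elHom Φ (iS F) * g⁻¹ with hy
    have hyC : y ∈ CA α := hg
    have hji : elHom Φ (iS F) * jj Φ = jj Φ * elHom Φ (iS F) := by
      show elHom Φ (iS F) * elHom Φ (dS (-1)) = elHom Φ (dS (-1)) * elHom Φ (iS F)
      rw [← map_mul, ← map_mul, dS_neg_one_comm]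
    have hyj : y * jj Φ = jj Φ * y := by
      calc y * jj Φ = g * (elHom Φ (iS F) * (g⁻¹ * (jj Φ * g))) * g⁻¹ := by rw [hy]; group
        _ = g * (elHom Φ (iS F) * jj Φ) * g⁻¹ := by rw [← hgj, inv_mul_cancel_left]
        _ = (g * jj Φ) * elHom Φ (iS F) * g⁻¹ := by rw [hji]; group
        _ = jj Φ * y := by rw [hgj, hy]; group
    obtain ⟨a, S, hS⟩ := K.C_inter_D hyC hyj
    have h4 : y ^ 4 = 1 := by
      rw [hy, conj_pow, ← map_pow, show iS F ^ 4 = 1 by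
        rw [show (4 : ℕ) = 2 * 2 from rfl, pow_mul, pow_two (iS F), iS_sq, pow_two, ← dS_mul,
          neg_mul_neg, one_mul, dS_one], map_one, mul_one, mul_inv_cancel]
    obtain rfl : a = 0 := K.el_z_order (n := 4) (by
      rw [show ((4 : ℕ) : F) = 2 * 2 by norm_num]
      exact mul_ne_zero K.two K.two) (hS ▸ h4)
    have hyS : y = elHom Φ S := hS
    obtain ⟨l, hl⟩ := K.exists_sq_ne_one
    have hconj : ∀ B, g * elHom Φ B = elHom Φ B * g → elHom Φ B = g * elHom Φ B * g⁻¹ :=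
      fun B hB => by rw [hB, mul_inv_cancel_right]
    have hinj : Function.Injective (elHom Φ) := fun B B' h => (Φ.inj _ _ _ _ h).2
    have e1 : S * dS l = dS l⁻¹ * S := by
      refine hinj ?_
      rw [map_mul, map_mul, ← hyS, hconj _ (hgd l), hconj _ (hgd l⁻¹), hy]
      have := congrArg (elHom Φ) (mul_inv_eq_iff_eq_mul.1 (iS_dS l))
      rw [map_mul, map_mul] at this
      calc g * elHom Φ (iS F) * g⁻¹ * (g * elHom Φ (dS l) * g⁻¹)
          = g * (elHom Φ (iS F) * elHom Φ (dS l)) * g⁻¹ := by group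
        _ = _ := by rw [this]; group
    have e2 : (S * uS 1) ^ 3 = 1 := by
      refine hinj ?_
      rw [map_pow, map_mul, ← hyS, hconj _ (hgu 1), hy,
        show g * elHom Φ (iS F) * g⁻¹ * (g * elHom Φ (uS 1) * g⁻¹) =
          g * (elHom Φ (iS F) * elHom Φ (uS 1)) * g⁻¹ by group, conj_pow, ← map_mul, ← map_pow,
        iS_uS_cube, map_one, mul_one, mul_inv_cancel]
    rw [eq_iS hl e1 e2, hy] at hyS
    exact mul_inv_eq_iff_eq_mul.1 hyS
  refine sl_cases (fun B => g * elHom Φ B = elHom Φ B * g) ?_ ?_ hgu hgd hi A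
  · intro B B' h h'
    rw [map_mul]
    exact (show Commute g (elHom Φ B) from h).mul_right h'
  · intro B h
    rw [map_inv]
    exact (show Commute g (elHom Φ B) from h).inv_right

end Ctx

/-- Case B with the exchange `w` fixed. -/
structure Setup (Φ : Frame F (Subgroup.centralizer ({α} : Set G))) (P : Sylow 3 G) (M : Subgroup G)
    (w : G) : Prop extends Ctx Φ P M where
  hw2 : w * w = 1
  hwj : w * jj Φ = jj Φ * w
  hwM : Acts Φ w (symHom F wM)

/-- The second torus. -/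
abbrev h' (w : G) (l : Fˣ) : G := w * Φ.hH l * w⁻¹

namespace Setup

variable {Φ} {P : Sylow 3 G} {M : Subgroup G} {w : G} (K : Setup Φ P M w)
include K

theorem w_inv : w⁻¹ = w := inv_eq_of_mul_eq_one_right K.hw2

theorem w_mM (a b c : F) : w * Φ.mM (a, b, c) * w⁻¹ = Φ.mM (c, -b, a) := by
  rw [K.hwM, wM_apply]

theorem h'_acts (l : Fˣ) (a b c : F) :
    h' Φ w l * Φ.mM (a, b, c) * (h' Φ w l)⁻¹ = Φ.mM ((l : F) * l * a, (l : F) * b, c) := by
  have e : Φ.mM (a, b, c) = w * Φ.mM (c, -b, a) * w⁻¹ := by rw [K.w_mM]; simp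
  rw [e, show h' Φ w l * (w * Φ.mM (c, -b, a) * w⁻¹) * (h' Φ w l)⁻¹ =
    w * (Φ.hH l * Φ.mM (c, -b, a) * (Φ.hH l)⁻¹) * w⁻¹ by simp only [h']; group, acts_hH Φ l,
    hT_apply, K.w_mM]
  congr 1
  simp

theorem jj_comm_h' (l : Fˣ) : h' Φ w l * jj Φ = jj Φ * h' Φ w l := by
  have hc : Φ.hH l * jj Φ = jj Φ * Φ.hH l := by
    show Φ.hH l * Φ.hH (-1) = Φ.hH (-1) * Φ.hH l
    rw [← Φ.hH_mul, ← Φ.hH_mul, mul_comm]
  have hwj := K.hwj
  calc w * Φ.hH l * w⁻¹ * jj Φ = w * Φ.hH l * (w⁻¹ * (jj Φ * w)) * w⁻¹ := by group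
    _ = w * (Φ.hH l * jj Φ) * w⁻¹ := by rw [← hwj, inv_mul_cancel_left]; group
    _ = (w * jj Φ) * Φ.hH l * w⁻¹ := by rw [hc]; group
    _ = _ := by rw [hwj]; group

theorem h'_mem_NC (l : Fˣ) : h' Φ w l ∈ NC α :=
  mem_NC_of_conj Φ K.hb one_ne_zero (a' := (l : F) * l * 1)
    (mul_ne_zero (mul_ne_zero l.ne_zero l.ne_zero) one_ne_zero)
    (by rw [K.h'_acts]; simp)

theorem hH_comm_h' (l l' : Fˣ) : Φ.hH l * h' Φ w l' = h' Φ w l' * Φ.hH l := by
  have hpow : ∀ n : ℕ, Φ.hH l ^ n = Φ.hH (l ^ n) := fun n => by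
    induction n with
    | zero => simp [Φ.hH_one]
    | succ n ih => rw [pow_succ, ih, ← Φ.hH_mul, pow_succ]
  have key : ∀ l l' : Fˣ, ∃ c : F,
      Φ.hH l * h' Φ w l' * (Φ.hH l)⁻¹ * (h' Φ w l')⁻¹ = Φ.mM (0, 0, c) := by
    intro l l'
    have hpow : ∀ n : ℕ, Φ.hH l ^ n = Φ.hH (l ^ n) := fun n => by
      induction n with
      | zero => simp [Φ.hH_one]
      | succ n ih => rw [pow_succ, ih, ← Φ.hH_mul, pow_succ]
    set e := Φ.hH l * h' Φ w l' * (Φ.hH l)⁻¹ * (h' Φ w l')⁻¹ with he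
    have hact : Acts Φ e 1 := fun v => by
      obtain ⟨a, b, c⟩ := v
      have hl' : Acts Φ (h' Φ w l') (symHom F (dM l' 1)) := fun v => by
        obtain ⟨a, b, c⟩ := v
        rw [K.h'_acts, dM_apply]; simp
      rw [he, ((((acts_hH Φ l).mul Φ hl').mul Φ (acts_hH Φ l).inv).mul Φ hl'.inv) (a, b, c),
        hT, ← map_inv, ← map_inv, ← map_mul, ← map_mul, ← map_mul,
        show dM 1 l * dM l' 1 * (dM 1 l)⁻¹ * (dM l' 1)⁻¹ = (1 : GL (Fin 2) F) by
          rw [mul_inv_eq_one, mul_inv_eq_iff_eq_mul, dM_mul, dM_mul, mul_comm, mul_comm l], map_one]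
    obtain ⟨⟨a, b, c⟩, hv⟩ := (K.hM _).1 (K.mem_M_of_fix hact)
    have hej : e * jj Φ = jj Φ * e := by
      have h1 : Commute (Φ.hH l) (jj Φ) := by
        show Φ.hH l * Φ.hH (-1) = Φ.hH (-1) * Φ.hH l
        rw [← Φ.hH_mul, ← Φ.hH_mul, mul_comm]
      have h2 : Commute (h' Φ w l') (jj Φ) := K.jj_comm_h' l'
      exact ((h1.mul_left h2).mul_left h1.inv_left).mul_left h2.inv_left
    obtain rfl : b = 0 := K.comm_jj_M (u := (a, b, c)) (hv ▸ hej.symm)
    refine ⟨c, hv.trans ?_⟩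
    suffices a = 0 by rw [this]
    set y := h' Φ w l' * Φ.hH l * (h' Φ w l')⁻¹ with hy
    have hye : y = Φ.el (0, 0, -a) (uS (-c) * dS l) := by
      have e1 : y = e⁻¹ * Φ.hH l := by rw [he, hy]; simp only [h']; group
      rw [e1, hv, show (Φ.mM (a, 0, c))⁻¹ = Φ.mM (-a, 0, -c) from inv_eq_of_mul_eq_one_right (by
        rw [← Φ.mM_add, ← Φ.mM_zero]; congr 1; simp)]
      show Φ.el (0, 0, -a) (uS (-c)) * Φ.el 0 (dS l) = _
      rw [Φ.mul]
      congr 1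
      simp [vmul]
    have hq0 : ((Fintype.card F - 1 : ℕ) : F) ≠ 0 := by
      rw [Nat.cast_sub Fintype.card_pos, Nat.cast_one, FiniteField.cast_card_eq_zero]
      simp
    have h := K.el_z_order (a := -a) (A := uS (-c) * dS l) hq0 (by
      rw [← hye, hy, conj_pow, hpow, ← Fintype.card_units, pow_card_eq_one, Φ.hH_one, mul_one,
        mul_inv_cancel])
    exact neg_eq_zero.1 h
  obtain ⟨c, hc⟩ := key l l'
  obtain ⟨c2, hc2⟩ := key l' l
  have hflip : w * Φ.mM (0, 0, c) * w⁻¹ = (Φ.mM (0, 0, c2))⁻¹ := by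
    rw [← hc, ← hc2]
    have hwi := K.w_inv
    have hw2 := K.hw2
    simp only [h', hwi]
    simp [mul_assoc, mul_inv_rev, hwi, hw2]
  have hc0 : c = 0 := by
    rw [K.w_mM, neg_zero, eq_inv_iff_mul_eq_one, ← Φ.mM_add, ← Φ.mM_zero] at hflip
    have := congrArg Prod.fst (Φ.mM_inj hflip)
    simpa using this
  rw [hc0, show ((0, 0, 0) : V F) = 0 from rfl, Φ.mM_zero, mul_inv_eq_one] at hc
  exact mul_inv_eq_iff_eq_mul.1 hc

theorem h'_comm_el (l : Fˣ) (A : Matrix.SpecialLinearGroup (Fin 2) F) :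
    h' Φ w l * elHom Φ A = elHom Φ A * h' Φ w l := by
  refine K.toCtx.comm_elHom ((Subgroup.mem_normalizer_iff.1 (K.h'_mem_NC l) _).1 (Φ.el_mem _ _))
    (K.jj_comm_h' l) (fun t => ?_) (fun m => ?_) A
  · have e : elHom Φ (uS t) = Φ.mM (0, 0, t) := rfl
    have h := K.h'_acts l 0 0 t
    simp only [mul_zero] at h
    rw [e]
    exact mul_inv_eq_iff_eq_mul.1 h
  · exact (K.hH_comm_h' m l).symm

theorem mem_NC_decomp {g : G} (hg : g ∈ NC α) : ∃ l : Fˣ, (h' Φ w l)⁻¹ * g ∈ CA α := by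
  obtain ⟨a', ha'⟩ := exists_z_conj Φ K.two hg 1
  obtain ⟨x, hx, hxa⟩ := K.z_conj one_ne_zero ha'
  refine ⟨Units.mk0 x hx, mem_C_of_comm_z Φ K.hb one_ne_zero (mul_inv_eq_iff_eq_mul.1 ?_)⟩
  rw [show (h' Φ w (Units.mk0 x hx))⁻¹ * g * Φ.mM (1, 0, 0) * ((h' Φ w (Units.mk0 x hx))⁻¹ * g)⁻¹ =
    (h' Φ w (Units.mk0 x hx))⁻¹ * (g * Φ.mM (1, 0, 0) * g⁻¹) * h' Φ w (Units.mk0 x hx) by group, ha',
    hxa]
  have h := K.h'_acts (Units.mk0 x hx) 1 0 0
  simp only [Units.val_mk0, mul_zero] at h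
  rw [← h]; group

end Setup

end CfsgLib.PSpFourThreePower
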