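import Cfsg.Agent.PSpFourTypeThree.Coset

/-!
A TI elementary abelian Sylow 3-subgroup of order at least 27 with each element fixed or inverted by
the normaliser is normal, also modulo a central subgroup.
-/

set_option autoImplicit false
set_option linter.style.haveILetI false
set_option maxHeartbeats 400000

namespace CfsgLib.PSpFourThreePower

open CfsgLib.PSpFourTypeThree

universe u

variable {H : Type u} [Group H] [Finite H] (S : Subgroup H)

theorem normal_of_inverted (hcomm : ∀ a ∈ S, ∀ b ∈ S, a * b = b * a) (hexp : ∀ a ∈ S, a ^ 3 = 1)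
    (hidx : ¬ 3 ∣ S.index) (hcard : 9 < Nat.card S)
    (hcent : ∀ s ∈ S, s ≠ 1 → Subgroup.centralizer ({s} : Set H) ≤ Subgroup.normalizer (S : Set H))
    (hfpf : ∀ n ∈ Subgroup.normalizer (S : Set H), ∀ s ∈ S, s ≠ 1 → n * s * n⁻¹ = s → n ∈ S)
    (hinv : ∀ n ∈ Subgroup.normalizer (S : Set H), ∀ s ∈ S, n * s * n⁻¹ = s ∨ n * s * n⁻¹ = s⁻¹) :
    Subgroup.normalizer (S : Set H) = ⊤ := by
  classical
  haveI := Fintype.ofFinite S
  have hc : ∀ a b : S, a * b = b * a := fun a b => Subtype.ext (hcomm _ a.2 _ b.2)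
  have h3 : ∀ a : S, a * a * a = 1 := fun a => by
    have := hexp _ a.2
    exact Subtype.ext (by simpa [pow_succ, pow_two] using this)
  have hi : ∀ a : S, a⁻¹ = a * a := fun a => inv_eq_of_mul_eq_one_left (h3 a)
  rw [Nat.card_eq_fintype_card] at hcard
  obtain ⟨x, hx⟩ : ∃ x : S, x ≠ 1 := Fintype.exists_ne_of_one_lt_card (by omega) 1
  obtain ⟨y, hy⟩ : ∃ y : S, y ∉ ({1, x, x * x} : Finset S) := by
    by_contra! hall
    have := Finset.card_le_card (s := (Finset.univ : Finset S)) fun v _ => hall v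
    have := this.trans Finset.card_le_three
    rw [Finset.card_univ] at this
    omega
  obtain ⟨z, hz⟩ : ∃ z : S, z ∉ (({1, x, x * x} : Finset S) ×ˢ ({1, y, y * y} : Finset S)).image (fun p => p.1 * p.2) := by
    by_contra! hall
    have h1 := Finset.card_le_card (s := (Finset.univ : Finset S)) fun v _ => hall v
    have h2 : (({1, x, x * x} : Finset S) ×ˢ ({1, y, y * y} : Finset S)).card ≤ 3 * 3 := by
      rw [Finset.card_product]
      exact Nat.mul_le_mul Finset.card_le_three Finset.card_le_three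
    have h3' := h1.trans (Finset.card_image_le.trans h2)
    rw [Finset.card_univ] at h3'
    omega
  have hz' : ∀ a ∈ ({1, x, x * x} : Finset S), ∀ b ∈ ({1, y, y * y} : Finset S), z ≠ a * b :=
    fun a ha b hb e => hz (Finset.mem_image.2 ⟨(a, b), Finset.mem_product.2 ⟨ha, hb⟩, e.symm⟩)
  simp only [Finset.mem_insert, Finset.mem_singleton, not_or] at hy hz'
  obtain ⟨hy1, hyx, hyxx⟩ := hy
  have hinv' : ∀ n ∈ Subgroup.normalizer (S : Set H), ∀ s : S,
      n * (s : H) * n⁻¹ = (s : H) ∨ n * (s : H) * n⁻¹ = ((s * s : S) : H) := fun n hn s => by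
    rw [← hi]
    exact hinv n hn s s.2
  have key : ∀ a b : S, (a : H) = b → a = b := fun a b => Subtype.ext
  have hnn : ∀ a : S, a * (a * a) = 1 := fun a => by rw [← mul_assoc, h3]
  have hz0 : (x : H) * y * (((x * y)⁻¹ * z : S) : H) = z := by push_cast; group
  refine normal_of_diff S S hcomm hexp hidx hcent le_rfl
    (fun n hn b hb => (Subgroup.mem_normalizer_iff.1 hn b).1 hb) hfpf x.2 y.2
    (fun e => hx (key x 1 e)) (fun e => hy1 (key y 1 e)) ?_ (b0 := ((x * y)⁻¹ * z : S))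
    ((x * y)⁻¹ * z : S).2 ?_ ?_ ?_ ?_ ?_ ?_ ?_
  · intro n hn e
    rcases hinv' n hn x with h | h <;> rw [h] at e
    · exact hyx (key _ _ e).symm
    · exact hyxx (key _ _ e).symm
  · intro e
    have h := eq_inv_of_mul_eq_one_left (key (y * x) 1 (by rw [hc]; exact e))
    exact hyxx (h.trans (hi x))
  · intro e
    exact hz' 1 (Or.inl rfl) 1 (Or.inl rfl) (by rw [one_mul]; exact key z 1 (hz0.symm.trans e))
  · intro n hn e
    rcases hinv' n hn x with h | h <;> rw [h] at e
    · exact hy1 (mul_left_cancel (a := x) (key _ (x * 1) (by simpa using e.symm)))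
    · exact hyx (mul_left_cancel (a := x) (key (x * y) (x * x) e.symm))
  · intro n hn e
    have e' : n * (x : H) * n⁻¹ = (z : H) := e.trans hz0
    rcases hinv' n hn x with h | h <;> rw [h] at e'
    · exact hz' x (Or.inr (Or.inl rfl)) 1 (Or.inl rfl) (by rw [mul_one]; exact (key _ _ e').symm)
    · exact hz' (x * x) (Or.inr (Or.inr rfl)) 1 (Or.inl rfl) (by rw [mul_one]; exact (key _ _ e').symm)
  · intro n hn e
    rcases hinv' n hn y with h | h <;> rw [h] at e
    · exact hx (mul_right_cancel (b := y) (key _ (1 * y) (by simpa using e.symm)))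
    · exact hyx (mul_right_cancel (b := y) (key (x * y) (y * y) e.symm)).symm
  · intro n hn e
    have e' : n * (y : H) * n⁻¹ = (z : H) := e.trans hz0
    rcases hinv' n hn y with h | h <;> rw [h] at e'
    · exact hz' 1 (Or.inl rfl) y (Or.inr (Or.inl rfl)) (by rw [one_mul]; exact (key _ _ e').symm)
    · exact hz' 1 (Or.inl rfl) (y * y) (Or.inr (Or.inr rfl)) (by rw [one_mul]; exact (key _ _ e').symm)
  · intro e
    rw [hz0] at e
    refine (Nat.card_pos_iff.2 ⟨⟨⟨(x, y), ⟨1, one_mem _, by group⟩, ⟨1, one_mem _, by group⟩, rfl⟩⟩,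
      inferInstance⟩).ne' (e.symm.trans ?_)
    rw [Nat.card_eq_zero]
    refine Or.inl ⟨fun ⟨⟨a, b⟩, ⟨n, hn, ha⟩, ⟨k, hk, hb⟩, hab⟩ => ?_⟩
    rcases hinv' n hn x with h | h <;> rw [h] at ha <;>
      rcases hinv' k hk y with h' | h' <;> rw [h'] at hb <;> subst ha hb
    · exact hz' x (Or.inr (Or.inl rfl)) y (Or.inr (Or.inl rfl)) (key _ _ hab).symm
    · exact hz' x (Or.inr (Or.inl rfl)) (y * y) (Or.inr (Or.inr rfl)) (key _ _ hab).symm
    · exact hz' (x * x) (Or.inr (Or.inr rfl)) y (Or.inr (Or.inl rfl)) (key _ _ hab).symm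
    · exact hz' (x * x) (Or.inr (Or.inr rfl)) (y * y) (Or.inr (Or.inr rfl)) (key _ _ hab).symm

section Quot

variable {K : Type u} [Group K] [Finite K]

/-- The same modulo a central subgroup `W` of order prime to three. -/
theorem normal_of_inverted_mod (S W : Subgroup K) (hW : W ≤ Subgroup.center K)
    (hW3 : ¬ 3 ∣ Nat.card W) (hcomm : ∀ a ∈ S, ∀ b ∈ S, a * b = b * a) (hexp : ∀ a ∈ S, a ^ 3 = 1)
    (hidx : ¬ 3 ∣ S.index) (hcard : 9 < Nat.card S)
    (hcent : ∀ s ∈ S, s ≠ 1 → Subgroup.centralizer ({s} : Set K) ≤ Subgroup.normalizer (S : Set K))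
    (hfpf : ∀ n ∈ Subgroup.normalizer (S : Set K), ∀ s ∈ S, s ≠ 1 → n * s * n⁻¹ = s → n ∈ S ⊔ W)
    (hinv : ∀ n ∈ Subgroup.normalizer (S : Set K), ∀ s ∈ S, n * s * n⁻¹ = s ∨ n * s * n⁻¹ = s⁻¹)
    (g : K) : g ∈ Subgroup.normalizer (S : Set K) := by
  haveI hWn : W.Normal := ⟨fun w hw v => by
    rw [Subgroup.mem_center_iff.1 (hW hw) v, mul_inv_cancel_right]; exact hw⟩
  set π := QuotientGroup.mk' W with hπdef
  have hsurj : Function.Surjective π := QuotientGroup.mk'_surjective W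
  have hone : ∀ a : K, π a = 1 ↔ a ∈ W := fun a => QuotientGroup.eq_one_iff a
  -- an element of `W` of exponent three is trivial
  have hW1 : ∀ w ∈ W, w ^ 3 = 1 → w = 1 := fun w hw h => by
    have h1 : orderOf w ∣ Nat.card W := Subgroup.orderOf_dvd_natCard W hw
    rcases (Nat.dvd_prime Nat.prime_three).1 (orderOf_dvd_of_pow_eq_one h) with e | e
    · exact orderOf_eq_one_iff.1 e
    · exact absurd (e ▸ h1) hW3
  have hlift : ∀ a b : K, a ^ 3 = 1 → b ^ 3 = 1 → π a = π b → a = b := fun a b ha hb e => by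
    have hw : a⁻¹ * b ∈ W := QuotientGroup.eq.1 e
    have hc : Commute a⁻¹ b := by
      have := Subgroup.mem_center_iff.1 (hW hw) a
      show a⁻¹ * b = b * a⁻¹
      calc a⁻¹ * b = (a * (a⁻¹ * b)) * a⁻¹ := by rw [this, mul_inv_cancel_right]
        _ = b * a⁻¹ := by rw [mul_inv_cancel_left]
    exact inv_mul_eq_one.1 (hW1 _ hw (by rw [hc.mul_pow, inv_pow, ha, hb, inv_one, mul_one]))
  have hN : ∀ v : K, π v ∈ Subgroup.normalizer (S.map π : Set (K ⧸ W)) →
      v ∈ Subgroup.normalizer (S : Set K) := by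
    intro v hv
    have hmap : ∀ u, u ^ 3 = 1 → π u ∈ S.map π → u ∈ S := fun u hu h => by
      obtain ⟨s, hs, e⟩ := h
      exact hlift s u (hexp s hs) hu e ▸ hs
    refine Subgroup.mem_normalizer_iff.2 fun u => ⟨fun hu => ?_, fun hu => ?_⟩
    · refine hmap _ (by rw [conj_pow, hexp u hu, mul_one, mul_inv_cancel]) ?_
      rw [map_mul, map_mul, map_inv]
      exact (Subgroup.mem_normalizer_iff.1 hv (π u)).1 ⟨u, hu, rfl⟩
    · refine hmap _ ?_ ((Subgroup.mem_normalizer_iff.1 hv (π u)).2 ?_)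
      · have := hexp _ hu
        rw [conj_pow, mul_inv_eq_one] at this
        exact mul_left_cancel (this.trans (mul_one v).symm)
      · rw [← map_inv, ← map_mul, ← map_mul]
        exact ⟨_, hu, rfl⟩
  have hN' : ∀ v : K, v ∈ Subgroup.normalizer (S : Set K) →
      π v ∈ Subgroup.normalizer (S.map π : Set (K ⧸ W)) := fun v hv =>
    Subgroup.le_normalizer_map π ⟨v, hv, rfl⟩
  have hScard : Nat.card (S.map π) = Nat.card S := by
    refine (Nat.card_eq_of_bijective (fun s : S => (⟨π s, s, s.2, rfl⟩ : S.map π)) ⟨?_, ?_⟩).symm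
    · exact fun a b e => Subtype.ext (hlift a b (hexp _ a.2) (hexp _ b.2) (congrArg Subtype.val e))
    · rintro ⟨_, s, hs, rfl⟩; exact ⟨⟨s, hs⟩, rfl⟩
  apply hN
  rw [normal_of_inverted (S.map π) ?_ ?_ ?_ (hScard ▸ hcard) ?_ ?_ ?_]
  · trivial
  · rintro _ ⟨a, ha, rfl⟩ _ ⟨b, hb, rfl⟩
    rw [← map_mul, ← map_mul, hcomm a ha b hb]
  · rintro _ ⟨a, ha, rfl⟩
    rw [← map_pow, hexp a ha, map_one]
  · refine fun h => hidx (h.trans ?_)
    exact Subgroup.index_map_dvd _ hsurj
  · rintro _ ⟨s, hs, rfl⟩ hs1 v hv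
    obtain ⟨v, rfl⟩ := hsurj v
    refine hN' v (hcent s hs (fun e => hs1 (by rw [e, map_one])) ?_)
    rw [Subgroup.mem_centralizer_singleton_iff] at hv ⊢
    have h : v * s * v⁻¹ = s := hlift _ s (by rw [conj_pow, hexp s hs, mul_one, mul_inv_cancel])
      (hexp s hs) (by rw [map_mul, map_mul, map_inv, hv, mul_inv_cancel_right])
    exact mul_inv_eq_iff_eq_mul.1 h
  · intro v hv _ ⟨s, hs, e0⟩ hs1 h
    subst e0
    obtain ⟨v, rfl⟩ := hsurj v
    have hsv := hfpf v (hN v hv) s hs (fun e => hs1 (by rw [e, map_one]))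
      (hlift _ s (by rw [conj_pow, hexp s hs, mul_one, mul_inv_cancel]) (hexp s hs)
        (by rw [map_mul, map_mul, map_inv]; exact h))
    obtain ⟨a, ha, b, hb, rfl⟩ := Subgroup.mem_sup_of_normal_right.1 hsv
    rw [map_mul, (hone b).2 hb, mul_one]
    exact ⟨a, ha, rfl⟩
  · intro v hv _ ⟨s, hs, e0⟩
    subst e0
    obtain ⟨v, rfl⟩ := hsurj v
    rcases hinv v (hN v hv) s hs with e | e
    · exact Or.inl (by rw [← map_inv, ← map_mul, ← map_mul, e])
    · exact Or.inr (by rw [← map_inv, ← map_mul, ← map_mul, e, map_inv])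

end Quot

end CfsgLib.PSpFourThreePower
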