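import Cfsg.Agent.PSpFourCentral.Members
import Cfsg.Agent.PSpFourThreePower.Model

/-!
Involutions and square roots of `-1` in `Sp₄(q)`.
-/

set_option autoImplicit false
set_option linter.unusedSectionVars false
set_option linter.style.haveILetI false
set_option linter.unusedSimpArgs false

open Matrix Subgroup

namespace CfsgLib.PSpFourThreePower

open CfsgLib.PSpFourNormM CfsgLib.PSpFourCentral
open CfsgLib.PSpFourThree (mem_cols)
open CfsgLib.SpPres (αSp bl eB fB trans_pair αSp_apply αSp_mul αSp_bl)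

variable {F : Type*} [Field F]

local notation "Sp" => Matrix.symplecticGroup (Fin 2) F

/-- An element of `SL₂` by entries. -/
def slOf (a b c d : F) (h : a * d - b * c = 1) : Matrix.SpecialLinearGroup (Fin 2) F :=
  ⟨!![a, b; c, d], by rw [Matrix.det_fin_two]; simpa using h⟩

theorem slOf_val (a b c d : F) (h : a * d - b * c = 1) : (slOf a b c d h).1 = !![a, b; c, d] := rfl

theorem negOne_mul_val (g : Sp) : (negOne F * g).1 = -g.1 := by
  show (-1 : Matrix _ _ F) * g.1 = -g.1
  rw [Matrix.neg_mul, Matrix.one_mul]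

theorem negOne_comm (g : Sp) : negOne F * g = g * negOne F := Subtype.ext <| by
  show (-1 : Matrix _ _ F) * g.1 = g.1 * (-1 : Matrix _ _ F)
  rw [Matrix.neg_mul, Matrix.one_mul, Matrix.mul_neg, Matrix.mul_one]

theorem αSp_negOne (v : SpPres.Vec F 2) : αSp (negOne F) v = -v := by
  rw [αSp_apply]
  show (-1 : Matrix _ _ F) *ᵥ v = -v
  rw [Matrix.neg_mulVec, Matrix.one_mulVec]

theorem hatJ_val : (hatJ F).1 = PSpFourThree.ofRows !![1, 0, 0, 0; 0, -1, 0, 0; 0, 0, 1, 0; 0, 0, 0, -1] := by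
  ext i j
  rcases i with i | i <;> rcases j with j | j <;> fin_cases i <;> fin_cases j <;>
    simp [hatJ, Wm, PSpFourThree.W, PSpFourThree.ofRows, PSpFourThree.ix, dS]

/-- A square in `SL₂` equal to one. -/
theorem sl_sq_one (h2 : (2 : F) ≠ 0) {A : Matrix.SpecialLinearGroup (Fin 2) F} (hA : A * A = 1) :
    A = 1 ∨ A = dS (-1) := by
  have hd := A.2
  rw [Matrix.det_fin_two] at hd
  have g := fun i j => congrFun (congrFun (congrArg Subtype.val hA) i) j
  have g00 := g 0 0
  have g01 := g 0 1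
  have g10 := g 1 0
  have g11 := g 1 1
  simp [Matrix.SpecialLinearGroup.coe_mul, Matrix.mul_apply, Fin.sum_univ_two] at g00 g01 g10 g11
  by_cases ht : A.1 0 0 + A.1 1 1 = 0
  · exfalso
    apply h2
    linear_combination (A.1 0 0) * ht - g00 - hd
  · have h01 : A.1 0 1 = 0 :=
      (mul_eq_zero.1 (show (A.1 0 0 + A.1 1 1) * A.1 0 1 = 0 by linear_combination g01)).resolve_left ht
    have h10 : A.1 1 0 = 0 :=
      (mul_eq_zero.1 (show (A.1 0 0 + A.1 1 1) * A.1 1 0 = 0 by linear_combination g10)).resolve_left ht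
    rw [h01, zero_mul, sub_zero] at hd
    rw [h01, zero_mul, add_zero] at g00
    have h11 : A.1 1 1 = A.1 0 0 := by linear_combination -A.1 1 1 * g00 + A.1 0 0 * hd
    rcases mul_self_eq_one_iff.1 g00 with e | e
    · left
      refine Subtype.ext ?_
      ext i j
      fin_cases i <;> fin_cases j <;> simp [h01, h10, h11, e]
    · right
      refine Subtype.ext ?_
      ext i j
      fin_cases i <;> fin_cases j <;> simp [h01, h10, h11, e, dS]

theorem mem_plane_one {g : Sp} (he : αSp g (eB 0) = eB 0) (hf : αSp g (fB 0) = fB 0) :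
    g ∈ (pl1 F).range := by
  refine eq_pl1_of_fix (fun i => ?_) (fun i => ?_)
  · have := congrFun he i
    rw [αSp_apply, eB, Matrix.mulVec_single_one, Pi.single_apply] at this
    exact this
  · have := congrFun hf i
    rw [αSp_apply, fB, Matrix.mulVec_single_one, Pi.single_apply] at this
    exact this

/-- An involution other than `±1` is conjugate to the standard one. -/
theorem inv_plus (h2 : (2 : F) ≠ 0) {x : Sp} (hx : x * x = 1) (hx1 : x ≠ 1) (hxn : x ≠ negOne F) :
    ∃ g : Sp, g * x * g⁻¹ = hatJ F := by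
  have hxx : ∀ v, αSp x (αSp x v) = v := fun v => by rw [← αSp_mul, hx, map_one]; rfl
  obtain ⟨u, hu⟩ : ∃ u, u + αSp x u ≠ 0 := by
    by_contra h
    push Not at h
    refine hxn (SpPres.αSp_injective (LinearEquiv.ext fun v => ?_))
    rw [αSp_negOne]
    exact eq_neg_of_add_eq_zero_right (h v)
  set v := u + αSp x u
  have hxv : αSp x v = v := by rw [map_add, hxx, add_comm]
  obtain ⟨w₀, hw₀⟩ := SpPres.exists_dual_vec hu
  have hneg : bl v w₀ = -1 := by
    have := SpPres.bl_alt (v + w₀)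
    simp only [map_add, LinearMap.add_apply, SpPres.bl_alt] at this
    linear_combination this - hw₀
  set w := (-(2 : F)⁻¹) • (w₀ + αSp x w₀) with hw
  have hxw : αSp x w = w := by rw [hw, map_smul, map_add, hxx, add_comm]
  have hb2 : bl v (αSp x w₀) = -1 := by
    rw [← hneg, ← αSp_bl x v w₀, hxv]
  have hvw : bl v w = 1 := by
    rw [hw, map_smul, map_add, hneg, hb2, smul_eq_mul]
    field_simp
    ring
  obtain ⟨g, hge, hgf⟩ := trans_pair v w hvw
  have hy : g⁻¹ * x * g ∈ (pl1 F).range := by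
    refine mem_plane_one ?_ ?_
    · rw [αSp_mul, αSp_mul, hge, hxv, ← hge, SpPres.αSp_inv]
    · rw [αSp_mul, αSp_mul, hgf, hxw, ← hgf, SpPres.αSp_inv]
  obtain ⟨A, hA⟩ := hy
  have hAA : pl1 F (A * A) = pl1 F 1 := by
    rw [map_mul, hA, map_one]
    calc g⁻¹ * x * g * (g⁻¹ * x * g) = g⁻¹ * (x * x) * g := by group
      _ = 1 := by rw [hx]; group
  have hA2 : A * A = 1 := (Wm_inj h2 (congrArg _ hAA)).2
  refine ⟨g⁻¹, ?_⟩
  rw [inv_inv, ← hA]
  rcases sl_sq_one h2 hA2 with rfl | rfl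
  · exfalso
    rw [map_one] at hA
    apply hx1
    calc x = g * (g⁻¹ * x * g) * g⁻¹ := by group
      _ = 1 := by rw [← hA]; group
  · rfl

theorem exists_two_squares [Fintype F] (h2 : (2 : F) ≠ 0) (d : F) : ∃ a b : F, a * a + b * b = d := by
  classical
  have hodd : Fintype.card F % 2 = 1 := by
    rw [FiniteField.odd_card_of_char_ne_two]
    intro h
    apply h2
    have := (ringChar.spec F 2).2 (by rw [h])
    exact_mod_cast this
  obtain ⟨a, b, h⟩ := FiniteField.exists_root_sum_quadratic (f := (Polynomial.X ^ 2 : Polynomial F))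
    (g := Polynomial.X ^ 2 - Polynomial.C d) (Polynomial.degree_X_pow 2)
    (Polynomial.degree_X_pow_sub_C (by decide) _) hodd
  refine ⟨a, b, ?_⟩
  simp at h
  linear_combination h

/-- A square root of `-1` of `SL₂` is conjugate to the standard one. -/
theorem sl_conj_iS [Fintype F] (h2 : (2 : F) ≠ 0) {B : Matrix.SpecialLinearGroup (Fin 2) F}
    (hB : B * B = dS (-1)) : ∃ C : Matrix.SpecialLinearGroup (Fin 2) F, C⁻¹ * B * C = PSpFourTypeThree.iS F := by
  have hd := B.2
  rw [Matrix.det_fin_two] at hd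
  have g := fun i j => congrFun (congrFun (congrArg Subtype.val hB) i) j
  have g00 := g 0 0
  have g11 := g 1 1
  simp [Matrix.SpecialLinearGroup.coe_mul, Matrix.mul_apply, Fin.sum_univ_two, dS] at g00 g11
  have ht : B.1 1 1 = -B.1 0 0 := by
    have : (B.1 0 0 + B.1 1 1) * (B.1 0 0 + B.1 1 1) = 0 := by linear_combination g00 + g11 + 2 * hd
    linear_combination mul_self_eq_zero.1 this
  set a := B.1 0 0
  set b := B.1 0 1
  set c := B.1 1 0
  rw [ht] at hd
  -- the quadratic form takes a nonzero value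
  obtain ⟨p, r, hpr⟩ : ∃ p r : F, -c * p * p + 2 * a * p * r + b * r * r ≠ 0 := by
    by_contra hall
    push Not at hall
    have hc : c = 0 := by linear_combination -hall 1 0
    have hb : b = 0 := by linear_combination hall 0 1
    have ha2 : 2 * a = 0 := by linear_combination hall 1 1 + hc - hb
    have ha : a = 0 := (mul_eq_zero.1 ha2).resolve_left h2
    rw [ha, hb, hc] at hd
    simp at hd
  set d := -c * p * p + 2 * a * p * r + b * r * r with hdd
  obtain ⟨s, t, hst⟩ := exists_two_squares h2 d⁻¹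
  set v0 := s * p + t * (a * p + b * r) with hv0
  set v1 := s * r + t * (c * p - a * r) with hv1
  have hdet : v0 * -(c * v0 - a * v1) - -(a * v0 + b * v1) * v1 = 1 := by
    have : d * (s * s + t * t) = 1 := by rw [hst, mul_inv_cancel₀ hpr]
    rw [hv0, hv1]
    rw [hdd] at this
    linear_combination this + t * t * (-c * p * p + 2 * a * p * r + b * r * r) * hd
  refine ⟨slOf v0 (-(a * v0 + b * v1)) v1 (-(c * v0 - a * v1)) hdet, ?_⟩
  rw [mul_assoc, inv_mul_eq_iff_eq_mul]
  refine Subtype.ext ?_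
  rw [Matrix.SpecialLinearGroup.coe_mul, Matrix.SpecialLinearGroup.coe_mul, slOf_val,
    Matrix.eta_fin_two B.1]
  show !![a, b; c, B.1 1 1] * !![v0, -(a * v0 + b * v1); v1, -(c * v0 - a * v1)] =
    !![v0, -(a * v0 + b * v1); v1, -(c * v0 - a * v1)] * !![0, 1; -1, 0]
  rw [ht]
  simp [Matrix.mul_fin_two]
  exact ⟨by linear_combination v0 * hd, by ring, by linear_combination v1 * hd⟩

theorem iS_mul_self : PSpFourTypeThree.iS F * PSpFourTypeThree.iS F = dS (-1) := by
  refine Subtype.ext ?_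
  rw [Matrix.SpecialLinearGroup.coe_mul, show (PSpFourTypeThree.iS F).1 = !![0, 1; -1, 0] from rfl]
  simp [Matrix.mul_fin_two, dS]

/-- A square root of `-1` is conjugate to the standard one. -/
theorem inv_minus [Fintype F] (h2 : (2 : F) ≠ 0) {x : Sp} (hx : x * x = negOne F) :
    ∃ g : Sp, g * x * g⁻¹ = hatT F := by
  have hxx : ∀ v, αSp x (αSp x v) = -v := fun v => by rw [← αSp_mul, hx, αSp_negOne]
  obtain ⟨u, hu⟩ : ∃ u, bl u (αSp x u) ≠ 0 := by
    by_contra hall
    push Not at hall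
    have h0 : ∀ u v : SpPres.Vec F 2, bl u v = 0 := by
      intro u v
      have e := hall (u + -(αSp x v))
      simp only [map_add, map_neg, hxx, neg_neg, LinearMap.add_apply, LinearMap.neg_apply, hall,
        αSp_bl] at e
      have hswap : bl (αSp x v) v = -bl v (αSp x v) := by
        have := SpPres.bl_alt (αSp x v + v)
        simp only [map_add, LinearMap.add_apply, SpPres.bl_alt] at this
        linear_combination this
      have hsw : bl v u = -bl u v := by
        have := SpPres.bl_alt (v + u)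
        simp only [map_add, LinearMap.add_apply, SpPres.bl_alt] at this
        linear_combination this
      have e2 : 2 * bl u v = 0 := by
        rw [hswap, hall v, hsw] at e
        linear_combination e
      exact (mul_eq_zero.1 e2).resolve_left h2
    have h := h0 (eB 0 : SpPres.Vec F 2) (fB 0)
    rw [SpPres.bl_fB_right] at h
    simp [eB] at h
  set d := bl u (αSp x u) with hd
  obtain ⟨s, t, hst⟩ := exists_two_squares h2 (-d⁻¹)
  set v := s • u + t • αSp x u with hv
  have hQ : bl v (αSp x v) = -1 := by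
    have hswap : bl (αSp x u) u = -d := by
      have := SpPres.bl_alt (αSp x u + u)
      simp only [map_add, LinearMap.add_apply, SpPres.bl_alt] at this
      linear_combination this
    have h1 : d * (s * s + t * t) = -1 := by rw [hst, mul_neg, mul_inv_cancel₀ hu]
    rw [hv]
    simp only [map_add, map_smul, hxx, smul_neg, map_neg, LinearMap.add_apply, LinearMap.smul_apply,
      LinearMap.neg_apply, smul_eq_mul, SpPres.bl_alt, hswap, ← hd]
    linear_combination h1
  obtain ⟨g, hge, hgf⟩ := trans_pair v (-(αSp x v)) (by rw [map_neg, hQ, neg_neg])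
  set y := g⁻¹ * x * g with hy
  have hye : αSp y (eB 0) = -fB 0 := by
    rw [hy, αSp_mul, αSp_mul, hge, show αSp x v = -(αSp g (fB 0)) by rw [hgf, neg_neg], map_neg,
      SpPres.αSp_inv]
  have hyf : αSp y (fB 0) = eB 0 := by
    rw [hy, αSp_mul, αSp_mul, hgf, map_neg (αSp x), hxx, neg_neg, ← hge, SpPres.αSp_inv]
  set P := pl0 F (PSpFourTypeThree.iS F) with hP
  have hPe : αSp P (eB 0) = -fB 0 := by
    rw [hP, αSp_apply, pl0_val]
    funext i
    rcases i with i | i <;> fin_cases i <;>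
      simp [eB, fB, PSpFourThree.ofRows, PSpFourThree.ix, PSpFourTypeThree.iS]
  have hPf : αSp P (fB 0) = eB 0 := by
    rw [hP, αSp_apply, pl0_val]
    funext i
    rcases i with i | i <;> fin_cases i <;>
      simp [eB, fB, PSpFourThree.ofRows, PSpFourThree.ix, PSpFourTypeThree.iS]
  obtain ⟨B, hB⟩ := mem_plane_one (g := P⁻¹ * y)
    (by rw [αSp_mul, hye, ← hPe, SpPres.αSp_inv])
    (by rw [αSp_mul, hyf, ← hPf, SpPres.αSp_inv])
  have hyB : y = P * pl1 F B := by rw [hB, mul_inv_cancel_left]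
  have hyy : y * y = negOne F := by
    calc y * y = g⁻¹ * (x * x) * g := by rw [hy]; group
      _ = negOne F := by rw [hx, mul_assoc, negOne_comm, inv_mul_cancel_left]
  have hBB : pr F (dS (-1), B * B) = pr F (dS (-1), dS (-1)) := by
    have e1 : pr F (dS (-1), dS (-1)) = negOne F := by
      refine Subtype.ext ?_
      show (pl0 F (dS (-1)) : Sp).1 * (Wm 0 (dS (-1)) : Sp).1 = -1
      rw [pl0_val]
      ext i j
      rcases i with i | i <;> rcases j with j | j <;> fin_cases i <;> fin_cases j <;>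
        simp [Wm, PSpFourThree.W, PSpFourThree.ofRows, PSpFourThree.ix, Matrix.mul_apply,
          Fintype.sum_sum_type, Fin.sum_univ_two, dS]
    rw [e1, ← hyy, hyB]
    show pl0 F (dS (-1)) * pl1 F (B * B) = _
    rw [map_mul, ← iS_mul_self, map_mul, hP,
      mul_assoc (pl0 F (PSpFourTypeThree.iS F)) (pl1 F B), ← mul_assoc (pl1 F B),
      ← (planes_commute (PSpFourTypeThree.iS F) B).eq]
    group
  obtain ⟨D, hD⟩ := sl_conj_iS h2 (congrArg Prod.snd (pr_injective hBB))
  refine ⟨(g * pl1 F D)⁻¹, ?_⟩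
  show _ = pl1 F (PSpFourTypeThree.iS F) * P
  rw [← hD, map_mul, map_mul, map_inv, inv_inv]
  calc (g * pl1 F D)⁻¹ * x * (g * pl1 F D) = (pl1 F D)⁻¹ * y * pl1 F D := by rw [hy]; group
    _ = (pl1 F D)⁻¹ * (pl1 F B * P) * pl1 F D := by rw [hyB, (planes_commute _ B).eq]
    _ = (pl1 F D)⁻¹ * pl1 F B * (P * pl1 F D) := by group
    _ = (pl1 F D)⁻¹ * pl1 F B * (pl1 F D * P) := by rw [(planes_commute _ D).eq]
    _ = _ := by group

theorem hatW_mul_hatJ : hatW F * hatJ F = negOne F * (hatJ F * hatW F) := by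
  refine Subtype.ext ?_
  show (hatW F).1 * (hatJ F).1 = (negOne F * (hatJ F * hatW F) : Sp).1
  rw [negOne_mul_val]
  show _ = -((hatJ F).1 * (hatW F).1)
  rw [hatJ_val]
  ext i j
  rcases i with i | i <;> rcases j with j | j <;> fin_cases i <;> fin_cases j <;>
    simp [hatW, PSpFourThree.ofRows, PSpFourThree.ix, Matrix.fromBlocks, Matrix.mul_apply,
      Fintype.sum_sum_type, Fin.sum_univ_two]

/-- The centralizer of the standard involution is the pair of planes. -/
theorem cent_hatJ (h2 : (2 : F) ≠ 0) {g : Sp} (h : g * hatJ F = hatJ F * g) :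
    ∃ A B : Matrix.SpecialLinearGroup (Fin 2) F, g = Wm 0 A * (hatW F * Wm 0 B * (hatW F)⁻¹) := by
  have hm : g.1 * (hatJ F).1 = (hatJ F).1 * g.1 := congrArg Subtype.val h
  rw [hatJ_val] at hm
  have z : ∀ x : F, -x = x → x = 0 := fun x hx =>
    (mul_eq_zero.1 (show 2 * x = 0 by linear_combination -hx)).resolve_left h2
  have k := fun i j => congrFun (congrFun hm i) j
  have a1 := k (.inl 0) (.inl 1)
  have a2 := k (.inl 0) (.inr 1)
  have a3 := k (.inr 0) (.inl 1)
  have a4 := k (.inr 0) (.inr 1)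
  have a5 := k (.inl 1) (.inl 0)
  have a6 := k (.inl 1) (.inr 0)
  have a7 := k (.inr 1) (.inl 0)
  have a8 := k (.inr 1) (.inr 0)
  simp [PSpFourThree.ofRows, PSpFourThree.ix, Matrix.mul_apply, Fintype.sum_sum_type, Fin.sum_univ_two] at a1 a2 a3 a4 a5 a6 a7 a8
  have b1 := z _ a1
  have b2 := z _ a2
  have b3 := z _ a3
  have b4 := z _ a4
  have b5 := z _ a5.symm
  have b6 := z _ a6.symm
  have b7 := z _ a7.symm
  have b8 := z _ a8.symm
  have s1 := mem_cols g.2 (.inl 1) (.inr 1)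
  have s2 := mem_cols g.2 (.inl 0) (.inr 0)
  simp [Matrix.J, Matrix.fromBlocks, Fin.sum_univ_two, b1, b2, b3, b4, b5, b6, b7, b8] at s1 s2
  refine ⟨slOf (g.1 (.inl 1) (.inl 1)) (g.1 (.inl 1) (.inr 1)) (g.1 (.inr 1) (.inl 1)) (g.1 (.inr 1) (.inr 1))
      (by linear_combination -s1),
    slOf (g.1 (.inl 0) (.inl 0)) (g.1 (.inl 0) (.inr 0)) (g.1 (.inr 0) (.inl 0)) (g.1 (.inr 0) (.inr 0))
      (by linear_combination -s2), ?_⟩
  refine Subtype.ext ?_
  show g.1 = (Wm 0 _ : Sp).1 * (pl0 F _ : Sp).1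
  rw [pl0_val]
  ext i j
  rcases i with i | i <;> rcases j with j | j <;> fin_cases i <;> fin_cases j <;>
    simp [Wm, slOf_val, PSpFourThree.W, PSpFourThree.ofRows, PSpFourThree.ix, Matrix.mul_apply,
      Fintype.sum_sum_type, Fin.sum_univ_two, b1, b2, b3, b4, b5, b6, b7, b8]

/-- Centralizing or inverting the standard involution up to sign. -/
theorem cent_j (h2 : (2 : F) ≠ 0) (g : Sp) :
    (g * hatJ F = hatJ F * g → ∃ A B, g = Wm 0 A * (hatW F * Wm 0 B * (hatW F)⁻¹)) ∧
    (g * hatJ F = negOne F * (hatJ F * g) →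
      ∃ A B, g = Wm 0 A * (hatW F * Wm 0 B * (hatW F)⁻¹) * hatW F) := by
  refine ⟨cent_hatJ h2, fun h => ?_⟩
  have hW : hatJ F * hatW F = negOne F * (hatW F * hatJ F) := by
    rw [hatW_mul_hatJ, ← mul_assoc (negOne F) (negOne F),
      show negOne F * negOne F = 1 from Subtype.ext (by
        show (-1 : Matrix (Fin 2 ⊕ Fin 2) (Fin 2 ⊕ Fin 2) F) * -1 = 1
        rw [neg_mul_neg, Matrix.one_mul]), one_mul]
  have hWi : (hatW F)⁻¹ * hatJ F = negOne F * (hatJ F * (hatW F)⁻¹) := by
    rw [inv_mul_eq_iff_eq_mul, ← mul_assoc (hatW F) (negOne F), ← negOne_comm, mul_assoc,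
      ← mul_assoc (hatW F), ← mul_assoc (negOne F), ← hW, mul_inv_cancel_right]
  obtain ⟨A, B, e⟩ := cent_hatJ h2 (g := g * (hatW F)⁻¹) (by
    rw [mul_assoc, hWi, ← mul_assoc, ← negOne_comm, mul_assoc, ← mul_assoc g, h, ← mul_assoc (negOne F),
      ← mul_assoc (negOne F),
      show negOne F * negOne F = 1 from Subtype.ext (by
        show (-1 : Matrix (Fin 2 ⊕ Fin 2) (Fin 2 ⊕ Fin 2) F) * -1 = 1
        rw [neg_mul_neg, Matrix.one_mul]), one_mul, mul_assoc])
  exact ⟨A, B, by rw [← e, inv_mul_cancel_right]⟩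

theorem half_eqs {R : Type*} [Ring R] {J S K : R} (hJ : J * J = -1) (hS : S * S = 1) (hSJ : S * J = J * S)
    (hSK : S * K = K * S) (hKJ : J * K = -(K * J)) :
    (-(J * (1 + S)) + (1 - S)) * (J * (1 + S) + (1 - S)) = 4 ∧
    (J * (1 + S) + (1 - S)) * J = J * (J * (1 + S) + (1 - S)) ∧
    (J * (1 + S) + (1 - S)) * K = -((S * K) * (J * (1 + S) + (1 - S))) := by
  have hcm : ∀ z, S * z = z * S → (1 + S) * z = z * (1 + S) ∧ (1 - S) * z = z * (1 - S) := fun z hz =>
    ⟨by rw [add_mul, mul_add, one_mul, mul_one, hz], by rw [sub_mul, mul_sub, one_mul, mul_one, hz]⟩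
  obtain ⟨pJ, mJ⟩ := hcm J hSJ
  obtain ⟨pK, mK⟩ := hcm K hSK
  have hpm : (1 + S) * (1 - S) = 0 := by rw [add_mul, mul_sub, mul_sub, hS]; simp [add_comm]
  have hmp : (1 - S) * (1 + S) = 0 := by rw [sub_mul, mul_add, mul_add, hS]; simp [add_comm]
  have hpp : (1 + S) * (1 + S) + (1 - S) * (1 - S) = 4 := by
    rw [add_mul, sub_mul, mul_add, mul_sub, mul_sub, mul_add, hS]
    simp only [one_mul, mul_one]
    abel_nf
    norm_num
  have hSp : S * (1 + S) = 1 + S := by rw [mul_add, mul_one, hS, add_comm]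
  have hSm : S * (1 - S) = -(1 - S) := by rw [mul_sub, mul_one, hS, neg_sub]
  refine ⟨?_, ?_, ?_⟩
  · calc (-(J * (1 + S)) + (1 - S)) * (J * (1 + S) + (1 - S))
        = -(J * ((1 + S) * J) * (1 + S)) - J * ((1 + S) * (1 - S)) + ((1 - S) * J) * (1 + S)
            + (1 - S) * (1 - S) := by noncomm_ring
      _ = -((J * J) * ((1 + S) * (1 + S))) - J * ((1 + S) * (1 - S)) + J * ((1 - S) * (1 + S))
            + (1 - S) * (1 - S) := by rw [pJ, mJ]; noncomm_ring
      _ = 4 := by rw [hJ, hpm, hmp, ← hpp]; noncomm_ring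
  · rw [add_mul, mul_assoc J (1 + S) J, pJ, mJ, ← mul_add]
  · calc (J * (1 + S) + (1 - S)) * K = J * ((1 + S) * K) + (1 - S) * K := by noncomm_ring
      _ = (J * K) * (1 + S) + K * (1 - S) := by rw [pK, mK]; noncomm_ring
      _ = -((K * J) * (S * (1 + S))) - K * (S * (1 - S)) := by rw [hKJ, hSp, hSm]; noncomm_ring
      _ = -(K * (S * J) * (1 + S)) - K * (S * (1 - S)) := by rw [hSJ]; noncomm_ring
      _ = -((K * S) * (J * (1 + S) + (1 - S))) := by noncomm_ring
      _ = -((S * K) * (J * (1 + S) + (1 - S))) := by rw [hSK]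

/-- An element commuting with `J1` exchanging `J2` with `c` up to sign. -/
theorem swap_pair (h2 : (2 : F) ≠ 0) {J1 J2 c : Sp} (hJ1 : J1 * J1 = negOne F) (hJ2 : J2 * J2 = negOne F)
    (hc : c * c = negOne F) (h12 : J1 * J2 = negOne F * (J2 * J1)) (h1c : J1 * c = negOne F * (c * J1))
    (h2c : J2 * c = c * J2) :
    ∃ x : Sp, x * J1 = J1 * x ∧ (x * J2 * x⁻¹ = c ∨ x * J2 * x⁻¹ = negOne F * c) := by
  have m1 : J1.1 * J1.1 = -1 := congrArg Subtype.val hJ1
  have m2 : J2.1 * J2.1 = -1 := congrArg Subtype.val hJ2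
  have mc : c.1 * c.1 = -1 := congrArg Subtype.val hc
  have m12 : J1.1 * J2.1 = -(J2.1 * J1.1) := (congrArg Subtype.val h12).trans (negOne_mul_val _)
  have m1c : J1.1 * c.1 = -(c.1 * J1.1) := (congrArg Subtype.val h1c).trans (negOne_mul_val _)
  have m2c : J2.1 * c.1 = c.1 * J2.1 := congrArg Subtype.val h2c
  -- the involution
  set S := -(c.1 * J2.1) with hS
  have hSS : S * S = 1 := by
    calc S * S = c.1 * (J2.1 * c.1) * J2.1 := by rw [hS]; noncomm_ring
      _ = (c.1 * c.1) * (J2.1 * J2.1) := by rw [m2c]; noncomm_ring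
      _ = 1 := by rw [mc, m2]; noncomm_ring
  have hSJ : S * J1.1 = J1.1 * S := by
    calc S * J1.1 = -(c.1 * (J2.1 * J1.1)) := by rw [hS]; noncomm_ring
      _ = c.1 * (J1.1 * J2.1) := by rw [m12]; noncomm_ring
      _ = (c.1 * J1.1) * J2.1 := by noncomm_ring
      _ = -((J1.1 * c.1) * J2.1) := by rw [m1c]; noncomm_ring
      _ = J1.1 * S := by rw [hS]; noncomm_ring
  have hSK : S * J2.1 = J2.1 * S := by
    calc S * J2.1 = -((c.1 * J2.1) * J2.1) := by rw [hS]; noncomm_ring
      _ = -((J2.1 * c.1) * J2.1) := by rw [m2c]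
      _ = J2.1 * S := by rw [hS]; noncomm_ring
  have hScK : S * J2.1 = c.1 := by
    calc S * J2.1 = -(c.1 * (J2.1 * J2.1)) := by rw [hS]; noncomm_ring
      _ = c.1 := by rw [m2]; noncomm_ring
  obtain ⟨q1, q2, q3⟩ := half_eqs m1 hSS hSJ hSK m12
  set N := J1.1 * (1 + S) + (1 - S) with hN
  -- symplecticity
  set J := Matrix.J (Fin 2) F
  have adj : ∀ X : Sp, X.1ᵀ * J * X.1 = J := fun X => SymplecticGroup.mem_iff'.1 X.2
  have hJ1t : J1.1ᵀ * J = -(J * J1.1) := by
    calc J1.1ᵀ * J = -((J1.1ᵀ * J * J1.1) * J1.1) := by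
          rw [Matrix.mul_assoc (J1.1ᵀ * J), m1, Matrix.mul_neg, Matrix.mul_one, neg_neg]
      _ = -(J * J1.1) := by rw [adj J1]
  have hSt : Sᵀ * J = J * S := by
    have hcS : c.1ᵀ * J = -(J * c.1) := by
      calc c.1ᵀ * J = -((c.1ᵀ * J * c.1) * c.1) := by
            rw [Matrix.mul_assoc (c.1ᵀ * J), mc, Matrix.mul_neg, Matrix.mul_one, neg_neg]
        _ = -(J * c.1) := by rw [adj c]
    have hJS : J2.1ᵀ * J = -(J * J2.1) := by
      calc J2.1ᵀ * J = -((J2.1ᵀ * J * J2.1) * J2.1) := by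
            rw [Matrix.mul_assoc (J2.1ᵀ * J), m2, Matrix.mul_neg, Matrix.mul_one, neg_neg]
        _ = -(J * J2.1) := by rw [adj J2]
    rw [hS, Matrix.transpose_neg, Matrix.transpose_mul, Matrix.neg_mul, Matrix.mul_assoc, hcS,
      Matrix.mul_neg, neg_neg, ← Matrix.mul_assoc, hJS, Matrix.neg_mul, Matrix.mul_assoc, m2c,
      Matrix.mul_neg]
  have hNt : Nᵀ * J = J * (-(J1.1 * (1 + S)) + (1 - S)) := by
    rw [hN, Matrix.transpose_add, Matrix.transpose_mul, Matrix.transpose_add, Matrix.transpose_sub,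
      Matrix.transpose_one, Matrix.add_mul, Matrix.mul_assoc, hJ1t, Matrix.mul_neg, ← Matrix.mul_assoc,
      Matrix.add_mul (1 : Matrix _ _ F), Matrix.sub_mul, Matrix.one_mul, hSt]
    calc -((J + J * S) * J1.1) + (J - J * S) = -(J * ((1 + S) * J1.1)) + J * (1 - S) := by noncomm_ring
      _ = -(J * (J1.1 * (1 + S))) + J * (1 - S) := by
          rw [show (1 + S) * J1.1 = J1.1 * (1 + S) by
            rw [Matrix.add_mul, Matrix.mul_add, Matrix.one_mul, Matrix.mul_one, hSJ]]
      _ = _ := by noncomm_ring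
  have hsymp : (2⁻¹ : F) • N ∈ Matrix.symplecticGroup (Fin 2) F := by
    rw [SymplecticGroup.mem_iff', Matrix.transpose_smul, Matrix.smul_mul, Matrix.mul_smul, Matrix.smul_mul,
      smul_smul, hNt, Matrix.mul_assoc, q1,
      show (4 : Matrix (Fin 2 ⊕ Fin 2) (Fin 2 ⊕ Fin 2) F) = (4 : F) • 1 by
        rw [← Matrix.diagonal_one, ← Matrix.diagonal_smul]; ext i j; simp [Matrix.diagonal, Matrix.ofNat_apply],
      Matrix.mul_smul, Matrix.mul_one, smul_smul]
    rw [show (2⁻¹ : F) * 2⁻¹ * 4 = 1 by field_simp; norm_num, one_smul]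
  refine ⟨⟨_, hsymp⟩, Subtype.ext ?_, Or.inr ?_⟩
  · show ((2⁻¹ : F) • N) * J1.1 = J1.1 * ((2⁻¹ : F) • N)
    rw [Matrix.smul_mul, Matrix.mul_smul, q2]
  · rw [mul_inv_eq_iff_eq_mul]
    refine Subtype.ext ?_
    show ((2⁻¹ : F) • N) * J2.1 = (negOne F * c : Sp).1 * ((2⁻¹ : F) • N)
    rw [negOne_mul_val, Matrix.smul_mul, q3, hScK, Matrix.neg_mul, Matrix.mul_smul, smul_neg]

end CfsgLib.PSpFourThreePower
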