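import Cfsg.Agent.PSpFourThreePower.Commute
import Cfsg.Agent.PSpFourThreePower.Hom
import Cfsg.Agent.PSpFourThreePower.SpFacts

/-!
The subgroup isomorphic to `PSp₄(q)`: its involutions and the normalisers inside it.
-/

set_option autoImplicit false
set_option linter.unusedSectionVars false
set_option linter.style.haveILetI false
set_option maxHeartbeats 400000

open scoped Classical
open CfsgLib.PSpFourNormM CfsgLib.PSpFourTypeThree

namespace CfsgLib.PSpFourThreePower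

variable {F : Type*} [Field F]

local notation "Sp" => Matrix.symplecticGroup (Fin 2) F

theorem negOne_mul_self : negOne F * negOne F = 1 := Subtype.ext (by
  show (-1 : Matrix (Fin 2 ⊕ Fin 2) (Fin 2 ⊕ Fin 2) F) * -1 = 1
  rw [neg_mul_neg, Matrix.one_mul])

theorem hatW_mul_self : hatW F * hatW F = negOne F := by
  refine Subtype.ext ?_
  show (hatW F).1 * (hatW F).1 = (negOne F).1
  ext i j
  rcases i with i | i <;> rcases j with j | j <;> fin_cases i <;> fin_cases j <;>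
    simp [hatW, Matrix.fromBlocks, Matrix.mul_apply, Fintype.sum_sum_type, Fin.sum_univ_two]

variable {G : Type*} [Group G] {α : G} (Φ : Frame F (Subgroup.centralizer ({α} : Set G)))

section Points

variable [CharP F 3]

/-- The first generator of the first quaternion group. -/
abbrev k₁ : G := elHom Φ (iS F)

/-- The second generator of the first quaternion group. -/
abbrev ι₁ : G := elHom Φ (kS F)

/-- The first generator of the second quaternion group. -/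
abbrev k₂ (w : G) : G := elHom₂ Φ w (iS F)

/-- The second generator of the second quaternion group. -/
abbrev ι₂ (w : G) : G := elHom₂ Φ w (kS F)

/-- The standard involution of the second class. -/
abbrev t₁ (w : G) : G := k₁ Φ * k₂ Φ w

end Points

variable [Fintype F] [Finite G]

/-- The subgroup isomorphic to `PSp₄(q)` as the image of `Sp₄(q)`. -/
structure Emb (Φ : Frame F (Subgroup.centralizer ({α} : Set G))) (P : Sylow 3 G) (M : Subgroup G)
    (w : G) (Ψ : Sp →* G) : Prop extends Setup Φ P M w where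
  hΨ : ∀ v A, Ψ (Wm v A) = Φ.el v A
  hΨw : Ψ (hatW F) = w
  hker : Ψ.ker = Subgroup.center Sp
  iso : Nonempty (Ψ.range ≃* Cfsg.PSp 2 F)

variable {Φ} {P : Sylow 3 G} {M : Subgroup G} {w : G}

theorem Setup.exists_emb (K : Setup Φ P M w) : ∃ Ψ : Sp →* G, Emb Φ P M w Ψ := by
  obtain ⟨Ψ, h1, h2, -, h4, h5⟩ := exists_hom_swap K.big K.two Φ w K.hwM
    (mul_inv_eq_iff_eq_mul.2 K.hwj) (fun A B => K.comm₂ A B)
  refine ⟨Ψ, K, h1, ?_, h4, h5⟩
  set d := w⁻¹ * Ψ (hatW F) with hd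
  have hcomm : ∀ v A, d * Φ.el v A = Φ.el v A * d := by
    intro v A
    have e := h2 v A
    rw [map_mul, map_mul, map_inv, h1] at e
    calc d * Φ.el v A = w⁻¹ * (Ψ (hatW F) * Φ.el v A * (Ψ (hatW F))⁻¹) * Ψ (hatW F) := by rw [hd]; group
      _ = Φ.el v A * d := by rw [e, hd]; group
  have hdC : d ∈ CA α := mem_C_of_comm_z Φ K.hb one_ne_zero (hcomm _ _)
  obtain ⟨a, ha⟩ := exists_z_of_comm Φ K.two hdC (fun u => hcomm _ _) (hcomm _ _)
  have hW : Ψ (hatW F) = w * Φ.mM (a, 0, 0) := by rw [← ha, hd, mul_inv_cancel_left]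
  have hsq : Ψ (hatW F) * Ψ (hatW F) = 1 := by
    rw [← map_mul, hatW_mul_self]
    refine MonoidHom.mem_ker.1 ?_
    rw [h4]
    exact Symp.mem_center_iff.2 (Or.inr rfl)
  have hca : a = 0 := by
    have e : w * Φ.mM (a, 0, 0) * (w * Φ.mM (a, 0, 0)) =
        (w * Φ.mM (a, 0, 0) * w⁻¹) * (w * w) * Φ.mM (a, 0, 0) := by group
    rw [hW, e, K.hw2, mul_one, K.w_mM, ← Φ.mM_add, ← Φ.mM_zero] at hsq
    simpa using congrArg Prod.fst (Φ.mM_inj hsq)
  rw [hW, hca, show ((0, 0, 0) : V F) = 0 from rfl, Φ.mM_zero, mul_one]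

namespace Emb

variable {Ψ : Matrix.symplecticGroup (Fin 2) F →* G} (K : Emb Φ P M w Ψ)
include K

theorem Ψ_negOne : Ψ (negOne F) = 1 := by
  refine MonoidHom.mem_ker.1 ?_
  rw [K.hker]
  exact Symp.mem_center_iff.2 (Or.inr rfl)

theorem Ψ_eq_one {x : Sp} (h : Ψ x = 1) : x = 1 ∨ x = negOne F := by
  have hx : x ∈ Ψ.ker := h
  rw [K.hker] at hx
  rcases Symp.mem_center_iff.1 hx with e | e
  · exact Or.inl (Subtype.ext e)
  · exact Or.inr (Subtype.ext e)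

theorem Ψ_eq {x y : Sp} (h : Ψ x = Ψ y) : x = y ∨ x = negOne F * y := by
  rcases K.Ψ_eq_one (x := x * y⁻¹) (by rw [map_mul, map_inv, h, mul_inv_cancel]) with e | e
  · exact Or.inl (mul_inv_eq_one.1 e)
  · exact Or.inr (mul_inv_eq_iff_eq_mul.1 e)

theorem el_mem₀ (v : F × F × F) (A : Matrix.SpecialLinearGroup (Fin 2) F) : Φ.el v A ∈ Ψ.range :=
  ⟨_, K.hΨ v A⟩

theorem CA_le : CA α ≤ Ψ.range := fun g hg => by
  obtain ⟨v, A, rfl⟩ := (Φ.mem_iff g).1 hg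
  exact K.el_mem₀ v A

theorem w_mem : w ∈ Ψ.range := ⟨_, K.hΨw⟩

theorem Ψ_plane₂ (B : Matrix.SpecialLinearGroup (Fin 2) F) :
    Ψ (hatW F * Wm 0 B * (hatW F)⁻¹) = elHom₂ Φ w B := by
  rw [map_mul, map_mul, map_inv, K.hΨ, K.hΨw]; rfl

theorem elHom₂_mem (B : Matrix.SpecialLinearGroup (Fin 2) F) : elHom₂ Φ w B ∈ Ψ.range :=
  ⟨_, K.Ψ_plane₂ B⟩

theorem NC_le : NC α ≤ Ψ.range := fun g hg => by
  obtain ⟨l, hl⟩ := K.mem_NC_decomp hg
  have := mul_mem (K.elHom₂_mem (dS l)) (K.CA_le hl)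
  rwa [K.elHom₂_dS, mul_inv_cancel_left] at this

theorem NM_le : Subgroup.normalizer (M : Set G) ≤ Ψ.range := fun g hg => by
  obtain ⟨A, hA⟩ := K.image g hg
  have e := hA (1, 0, 0)
  rw [symHom_apply] at e
  simp only [sym, mul_one, mul_zero, add_zero] at e
  set x := (A : Matrix (Fin 2) (Fin 2) F) 0 0
  set y := (A : Matrix (Fin 2) (Fin 2) F) 1 0
  by_cases hy : y = 0
  · rw [hy] at e
    simp only [mul_zero] at e
    refine K.NC_le (mem_NC_of_conj Φ K.hb one_ne_zero (fun h0 => ?_) e)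
    rw [h0, show ((0, 0, 0) : V F) = 0 from rfl, Φ.mM_zero] at e
    exact z_ne_one Φ (one_ne_zero (α := F)) (by simpa using e)
  · set t := -(x / y) with ht
    have ht' : t * y = -x := by rw [ht]; field_simp
    have hs : Φ.sS t * Φ.mM (x * x, x * y, y * y) * (Φ.sS t)⁻¹ = Φ.mM (0, 0, y * y) := by
      rw [Φ.sS_mM, mul_inv_cancel_right, sU_apply]
      congr 1
      refine Prod.ext ?_ (Prod.ext ?_ rfl)
      · linear_combination (2 * x + t * y - x) * ht'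
      · linear_combination y * ht'
    have hn : (w * Φ.sS t * g) * Φ.mM (1, 0, 0) * (w * Φ.sS t * g)⁻¹ = Φ.mM (y * y, 0, 0) := by
      calc (w * Φ.sS t * g) * Φ.mM (1, 0, 0) * (w * Φ.sS t * g)⁻¹
          = w * (Φ.sS t * (g * Φ.mM (1, 0, 0) * g⁻¹) * (Φ.sS t)⁻¹) * w⁻¹ := by group
        _ = _ := by rw [e, hs, K.w_mM, neg_zero]
    have := mul_mem (inv_mem (mul_mem K.w_mem (K.el_mem₀ (0, -t, 0) 1)))
      (K.NC_le (mem_NC_of_conj Φ K.hb one_ne_zero (mul_ne_zero hy hy) hn))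
    rwa [show (w * Φ.el (0, -t, 0) 1)⁻¹ * (w * Φ.sS t * g) = g by
      show (w * Φ.sS t)⁻¹ * (w * Φ.sS t * g) = g
      group] at this

theorem Ψ_hatJ : Ψ (hatJ F) = jj Φ := K.hΨ _ _

theorem Ψ_hatT : haveI := K.char; Ψ (hatT F) = t₁ Φ w := by
  show Ψ (Wm 0 (iS F) * (hatW F * Wm 0 (iS F) * (hatW F)⁻¹)) = _
  rw [map_mul, K.Ψ_plane₂, K.hΨ]; rfl

theorem conj_jj_of_sq {x : Sp} (hx : x * x = 1) (h1 : Ψ x ≠ 1) :
    ∃ g ∈ Ψ.range, g * Ψ x * g⁻¹ = jj Φ := by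
  obtain ⟨g, hg⟩ := inv_plus K.two hx (fun e => h1 (by rw [e, map_one]))
    (fun e => h1 (by rw [e, K.Ψ_negOne]))
  exact ⟨Ψ g, ⟨g, rfl⟩, by rw [← map_inv, ← map_mul, ← map_mul, hg, K.Ψ_hatJ]⟩

theorem conj_t₁_of_sq {x : Sp} (hx : x * x = negOne F) :
    haveI := K.char; ∃ g ∈ Ψ.range, g * Ψ x * g⁻¹ = t₁ Φ w := by
  obtain ⟨g, hg⟩ := inv_minus K.two hx
  exact ⟨Ψ g, ⟨g, rfl⟩, by rw [← map_inv, ← map_mul, ← map_mul, hg, K.Ψ_hatT]⟩

/-- An involution of the subgroup is of one of the two types. -/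
theorem involution {i : G} (hi : i ∈ Ψ.range) (h2 : i * i = 1) (h1 : i ≠ 1) :
    haveI := K.char
    (∃ g ∈ Ψ.range, g * i * g⁻¹ = jj Φ) ∨ ∃ g ∈ Ψ.range, g * i * g⁻¹ = t₁ Φ w := by
  obtain ⟨x, rfl⟩ := hi
  rw [← map_mul] at h2
  rcases K.Ψ_eq_one h2 with e | e
  · exact Or.inl (K.conj_jj_of_sq e h1)
  · exact Or.inr (K.conj_t₁_of_sq e)

/-- The centraliser of `j` inside the subgroup. -/
theorem cent_jj₀ {g : G} (hg : g ∈ Ψ.range) (hgj : g * jj Φ = jj Φ * g) :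
    ∃ A B, g = elHom Φ A * elHom₂ Φ w B ∨ g = elHom Φ A * elHom₂ Φ w B * w := by
  obtain ⟨x, rfl⟩ := hg
  rw [← K.Ψ_hatJ, ← map_mul, ← map_mul] at hgj
  rcases K.Ψ_eq hgj with e | e
  · obtain ⟨A, B, rfl⟩ := (cent_j K.two x).1 e
    exact ⟨A, B, Or.inl (by rw [map_mul, K.Ψ_plane₂, K.hΨ]; rfl)⟩
  · obtain ⟨A, B, rfl⟩ := (cent_j K.two x).2 e
    exact ⟨A, B, Or.inr (by rw [map_mul, map_mul, K.Ψ_plane₂, K.hΨ, K.hΨw]; rfl)⟩

end Emb

end CfsgLib.PSpFourThreePower
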